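import Cfsg.Agent.Lib.Char.KnorrReal.Weight
import Cfsg.Agent.Lib.Char.ExtendCriteria
import Cfsg.Agent.Lib.Char.Scalar
import Mathlib.GroupTheory.SemidirectProduct
import Mathlib.LinearAlgebra.Matrix.BilinearForm
import Mathlib.LinearAlgebra.FiniteDimensional.Basic

/-!
# Square roots of permutation characters: alternating forms

An invariant nondegenerate alternating form has an invariant cocycle; the invariant irreducible
character of the Heisenberg group extends to the semidirect product, and its values at the acting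
group form a weight of the permutation character.
-/

set_option autoImplicit false
set_option linter.unusedSectionVars false

namespace CfsgLib.Char.KnorrReal

open scoped ComplexConjugate
open Finset Cfsg CfsgLib CfsgLib.Char CfsgLib.Block

universe u v

variable {p : ℕ} [hp : Fact p.Prime]

section cocycle

variable {H : Type u} [Group H] {U : Type v} [AddCommGroup U] [Module (ZMod p) U]

/-- An alternating form is the antisymmetrization of an invariant bilinear form. -/
theorem exists_cocycle [Finite H] [Finite U] (hcop : ¬ p ∣ Nat.card H)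
    (ρ : Representation (ZMod p) H U) (A : LinearMap.BilinForm (ZMod p) U) (halt : ∀ x, A x x = 0)
    (hinv : ∀ h x y, A (ρ h x) (ρ h y) = A x y) :
    ∃ c : LinearMap.BilinForm (ZMod p) U, (∀ h x y, c (ρ h x) (ρ h y) = c x y) ∧
      ∀ x y, c x y - c y x = A x y := by
  classical
  have := Fintype.ofFinite H
  let b := Module.finBasis (ZMod p) U
  let M := BilinForm.toMatrix b A
  let c₀ : LinearMap.BilinForm (ZMod p) U :=
    Matrix.toBilin b (Matrix.of fun i j => if i < j then M i j else 0)
  have hanti : ∀ x y, A y x = -A x y := fun x y => by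
    have h := halt (x + y)
    simp only [map_add, LinearMap.add_apply, halt, zero_add, add_zero] at h
    linear_combination h
  have h0 : c₀ - c₀.flip = A := by
    refine LinearMap.BilinForm.ext_basis b fun i j => ?_
    have e : ∀ i j, c₀ (b i) (b j) = if i < j then A (b i) (b j) else 0 := fun i j => by
      have h1 := BilinForm.toMatrix_apply b c₀ i j
      rw [show c₀ = Matrix.toBilin b (Matrix.of fun i j => if i < j then M i j else 0) from rfl,
        BilinForm.toMatrix_toBilin] at h1
      rw [← h1]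
      exact if_congr Iff.rfl (BilinForm.toMatrix_apply b A i j) rfl
    rw [LinearMap.sub_apply, LinearMap.sub_apply, LinearMap.BilinForm.flip_apply, e, e]
    rcases lt_trichotomy i j with h | h | h
    · rw [if_pos h, if_neg h.not_gt, sub_zero]
    · subst h; simp [halt]
    · rw [if_neg h.not_gt, if_pos h, zero_sub, ← hanti]
  have hN : (Fintype.card H : ZMod p) ≠ 0 := fun e => hcop (by
    rw [Nat.card_eq_fintype_card]; exact (ZMod.natCast_eq_zero_iff ..).1 e)
  refine ⟨(Fintype.card H : ZMod p)⁻¹ • ∑ h : H, c₀.comp (ρ h) (ρ h), fun g x y => ?_, fun x y => ?_⟩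
  · simp only [LinearMap.smul_apply, LinearMap.sum_apply, LinearMap.BilinForm.comp_apply]
    congr 1
    rw [← Equiv.sum_comp (Equiv.mulRight g) fun h => c₀ (ρ h x) (ρ h y)]
    simp [map_mul]
  · simp only [LinearMap.smul_apply, LinearMap.sum_apply, LinearMap.BilinForm.comp_apply,
      smul_eq_mul, ← mul_sub, ← Finset.sum_sub_distrib]
    have e : ∀ h : H, c₀ (ρ h x) (ρ h y) - c₀ (ρ h y) (ρ h x) = A x y := fun h => by
      rw [← hinv h x y, ← h0]; rfl
    rw [Finset.sum_congr rfl fun h _ => e h, Finset.sum_const, Finset.card_univ, nsmul_eq_mul,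
      inv_mul_cancel_left₀ hN]

end cocycle

/-- The Heisenberg group of a bilinear form. -/
@[ext]
structure Heis {U : Type v} [AddCommGroup U] [Module (ZMod p) U]
    (c : LinearMap.BilinForm (ZMod p) U) where
  /-- The vector part. -/
  u : U
  /-- The central part. -/
  z : ZMod p

namespace Heis

variable {U : Type v} [AddCommGroup U] [Module (ZMod p) U] {c : LinearMap.BilinForm (ZMod p) U}

instance : Mul (Heis c) := ⟨fun x y => ⟨x.u + y.u, x.z + y.z + c x.u y.u⟩⟩
instance : One (Heis c) := ⟨⟨0, 0⟩⟩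
instance : Inv (Heis c) := ⟨fun x => ⟨-x.u, -x.z + c x.u x.u⟩⟩

@[simp] theorem mul_u (x y : Heis c) : (x * y).u = x.u + y.u := rfl
@[simp] theorem mul_z (x y : Heis c) : (x * y).z = x.z + y.z + c x.u y.u := rfl
@[simp] theorem one_u : (1 : Heis c).u = 0 := rfl
@[simp] theorem one_z : (1 : Heis c).z = 0 := rfl
@[simp] theorem inv_u (x : Heis c) : x⁻¹.u = -x.u := rfl
@[simp] theorem inv_z (x : Heis c) : x⁻¹.z = -x.z + c x.u x.u := rfl

instance : Group (Heis c) :=
  Group.ofLeftAxioms (fun x y w => by ext <;> simp <;> abel) (fun x => by ext <;> simp)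
    (fun x => by ext <;> simp)

/-- The underlying pairs. -/
def equivProd : Heis c ≃ U × ZMod p where
  toFun x := (x.u, x.z)
  invFun x := ⟨x.1, x.2⟩
  left_inv _ := rfl
  right_inv _ := rfl

instance [Finite U] : Finite (Heis c) := Finite.of_equiv _ equivProd.symm

theorem card_eq : Nat.card (Heis c) = Nat.card U * p := by
  rw [Nat.card_congr equivProd, Nat.card_prod, Nat.card_zmod]

/-- The central elements. -/
def cen (a : ZMod p) : Heis c := ⟨0, a⟩

theorem cen_eq_pow (a : ZMod p) : (cen a : Heis c) = (cen 1) ^ a.val := by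
  have h : ∀ k : ℕ, (cen 1 : Heis c) ^ k = cen (k : ZMod p) := by
    intro k
    induction k with
    | zero => ext <;> simp [cen]
    | succ k ih => rw [pow_succ, ih]; ext <;> simp [cen]
  rw [h, ZMod.natCast_zmod_val]

theorem cen_pow_p : (cen 1 : Heis c) ^ p = 1 := by
  have h : ∀ k : ℕ, (cen 1 : Heis c) ^ k = cen (k : ZMod p) := by
    intro k
    induction k with
    | zero => ext <;> simp [cen]
    | succ k ih => rw [pow_succ, ih]; ext <;> simp [cen]
  rw [h, ZMod.natCast_self]; rfl

theorem cen_mem_center (a : ZMod p) : (cen a : Heis c) ∈ Subgroup.center (Heis c) :=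
  Subgroup.mem_center_iff.2 fun x => by ext <;> simp [cen, add_comm]

theorem conj_eq (y x : Heis c) : y * x * y⁻¹ = x * cen (c y.u x.u - c x.u y.u) := by
  rw [mul_inv_eq_iff_eq_mul]
  ext <;> simp [cen] <;> first | ring | abel

/-- The action of the invariance group. -/
def actEquiv {H : Type u} [Group H] (ρ : Representation (ZMod p) H U)
    (hc : ∀ h x y, c (ρ h x) (ρ h y) = c x y) (h : H) : Heis c ≃* Heis c where
  toFun x := ⟨ρ h x.u, x.z⟩
  invFun x := ⟨ρ h⁻¹ x.u, x.z⟩
  left_inv x := by ext <;> simp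
  right_inv x := by ext <;> simp
  map_mul' x y := by ext <;> simp [hc]

/-- The action as a homomorphism. -/
def act {H : Type u} [Group H] (ρ : Representation (ZMod p) H U)
    (hc : ∀ h x y, c (ρ h x) (ρ h y) = c x y) : H →* MulAut (Heis c) where
  toFun := actEquiv ρ hc
  map_one' := by ext x <;> simp [actEquiv]
  map_mul' g h := by ext x <;> simp [actEquiv]

@[simp] theorem act_u {H : Type u} [Group H] (ρ : Representation (ZMod p) H U)
    (hc : ∀ h x y, c (ρ h x) (ρ h y) = c x y) (h : H) (x : Heis c) :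
    (act ρ hc h x).u = ρ h x.u := rfl

@[simp] theorem act_z {H : Type u} [Group H] (ρ : Representation (ZMod p) H U)
    (hc : ∀ h x y, c (ρ h x) (ρ h y) = c x y) (h : H) (x : Heis c) :
    (act ρ hc h x).z = x.z := rfl

end Heis

theorem pow_val_ne_one {z : ℂ} (hz : z ^ p = 1) (hz1 : z ≠ 1) {a : ZMod p} (ha : a ≠ 0) :
    z ^ a.val ≠ 1 := by
  rw [Ne, ← orderOf_dvd_iff_pow_eq_one, orderOf_eq_prime hz hz1]
  exact fun hd => ha ((ZMod.val_eq_zero a).1 (Nat.eq_zero_of_dvd_of_lt hd (ZMod.val_lt a)))

theorem conj_root_mul {z : ℂ} (hz : z ^ p = 1) : z * conj z = 1 := by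
  rw [Complex.mul_conj', Complex.norm_eq_one_of_pow_eq_one hz hp.out.ne_zero]; simp

/-- An inner product of functions supported on `p` elements with a common phase. -/
theorem classInner_supported {G : Type u} [Group G] [Fintype G] (j : ZMod p → G)
    (hj : Function.Injective j) {z : ℂ} (hz : z ^ p = 1) (f g : G → ℂ) (a b : ℂ)
    (hf : ∀ k, f (j k) = z ^ k.val * a) (hg : ∀ k, g (j k) = z ^ k.val * b)
    (hoff : ∀ x, x ∉ Set.range j → f x = 0) :
    classInner f g = (p : ℂ) * a * conj b / (Nat.card G : ℂ) := by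
  classical
  rw [classInner, ← Fintype.sum_of_injective j hj (fun k => f (j k) * conj (g (j k)))
    (fun x => f x * conj (g x)) (fun x hx => by rw [hoff x hx, zero_mul]) fun k => rfl]
  have e : ∀ k, f (j k) * conj (g (j k)) = a * conj b := fun k => by
    rw [hf, hg, map_mul, map_pow]
    have h1 : z ^ k.val * conj z ^ k.val = 1 := by rw [← mul_pow, conj_root_mul hz, one_pow]
    linear_combination (a * conj b) * h1
  rw [Finset.sum_congr rfl fun k _ => e k, Finset.sum_const, Finset.card_univ, ZMod.card,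
    nsmul_eq_mul]
  field_simp

variable {H : Type u} [Group H] {U : Type v} [AddCommGroup U] [Module (ZMod p) U]

/-- The weight of an alternating form. -/
theorem hasW_alt [Finite H] [Finite U] {n : ℕ} (hHn : Nat.card H ∣ n) (hcop : ¬ p ∣ Nat.card H)
    (ρ : Representation (ZMod p) H U) (A : LinearMap.BilinForm (ZMod p) U) (halt : ∀ x, A x x = 0)
    (hinv : ∀ h x y, A (ρ h x) (ρ h y) = A x y) (hnd : ∀ x, (∀ y, A x y = 0) → x = 0) :
    HasW H n (fixCard ρ) := by
  classical
  obtain ⟨c, hc, hcA⟩ := exists_cocycle hcop ρ A halt hinv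
  have := Fintype.ofFinite H
  have := Fintype.ofFinite (Heis c)
  let z₀ : Heis c := Heis.cen 1
  -- an irreducible representation nontrivial on the centre
  have hz₀ : z₀ ≠ 1 := fun e => one_ne_zero (congrArg Heis.z e)
  obtain ⟨θ, hθ⟩ : ∃ θ : IrrCharacter (Heis c), (θ : Heis c → ℂ) z₀ ≠ (θ : Heis c → ℂ) 1 := by
    by_contra hcon
    push Not at hcon
    exact hz₀ (isConj_one_left.1 (isConj_of_irr_agree hcon))
  obtain ⟨θ, d, ρθ, hρθ, rfl⟩ := θ
  have := hρθ
  obtain ⟨z, hz⟩ := exists_scalar_of_mem_center ρθ (Heis.cen_mem_center (c := c) 1)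
  have hpowz : ∀ k : ℕ, ρθ (z₀ ^ k) = z ^ k • LinearMap.id := by
    intro k
    induction k with
    | zero => simp [Module.End.one_eq_id]
    | succ k ih =>
      rw [pow_succ, map_mul, ih, hz]
      ext w
      simp [smul_smul, pow_succ, mul_comm]
  have hzp : z ^ p = 1 := by
    have h := hpowz p
    rw [Heis.cen_pow_p, map_one] at h
    have hnt := nontrivial_of_irreducible ρθ
    obtain ⟨w, hw⟩ := exists_ne (0 : Fin d → ℂ)
    exact smul_left_injective ℂ hw (by simpa using (LinearMap.congr_fun h w).symm)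
  have hz1 : z ≠ 1 := fun e => hθ (by
    show ρθ.character z₀ = ρθ.character 1
    simp only [Representation.character, map_one]
    rw [hz, e, one_smul]; rfl)
  -- the extension
  let φ := Heis.act ρ hc
  let Γ := Heis c ⋊[φ] H
  have : Finite Γ := Finite.of_equiv _ SemidirectProduct.equivProd.symm
  have := Fintype.ofFinite Γ
  let inl : Heis c →* Γ := SemidirectProduct.inl
  let inr : H →* Γ := SemidirectProduct.inr
  have hconjr : ∀ (h : H) (x : Heis c), inr h * inl x = inl (φ h x) * inr h := fun h x => by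
    show SemidirectProduct.inr h * SemidirectProduct.inl x =
      SemidirectProduct.inl (φ h x) * SemidirectProduct.inr h
    rw [SemidirectProduct.inl_aut, map_inv, inv_mul_cancel_right]
  let N : Subgroup Γ := inl.range
  have hNn : N.Normal := by
    rw [show N = (SemidirectProduct.rightHom : Γ →* H).ker from
      SemidirectProduct.range_inl_eq_ker_rightHom]
    infer_instance
  let e : Heis c ≃* N := MonoidHom.ofInjective SemidirectProduct.inl_injective
  have he : ∀ x, (e x : Γ) = inl x := fun x => rfl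
  let ρN : Representation ℂ N (Fin d → ℂ) := ρθ.comp e.symm.toMonoidHom
  have hρN : ρN.IsIrreducible := by
    let f : Subrepresentation ρN ≃o Subrepresentation ρθ :=
      { toFun := fun S => ⟨S.toSubmodule, fun g v hv => by
          have := S.apply_mem_toSubmodule (e g) hv
          simpa [ρN] using this⟩
        invFun := fun S => ⟨S.toSubmodule, fun x v hv => S.apply_mem_toSubmodule (e.symm x) hv⟩
        left_inv := fun S => rfl
        right_inv := fun S => rfl
        map_rel_iff' := Iff.rfl }
    exact f.isSimpleOrder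
  have hscal : ∀ a : ZMod p, ρθ (Heis.cen a) = z ^ a.val • LinearMap.id := fun a => by
    rw [Heis.cen_eq_pow]; exact hpowz _
  have hθmul : ∀ (x : Heis c) (a : ZMod p),
      ρθ.character (x * Heis.cen a) = z ^ a.val * ρθ.character x := fun x a => by
    simp only [Representation.character, map_mul, hscal, Module.End.mul_eq_comp,
      LinearMap.comp_smul, LinearMap.comp_id, map_smul, smul_eq_mul]
  have hθoff : ∀ x : Heis c, x.u ≠ 0 → ρθ.character x = 0 := fun x hx => by
    obtain ⟨y, hy⟩ := not_forall.1 (mt (hnd x.u) hx)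
    have h := Representation.char_conj ρθ x ⟨y, 0⟩
    rw [Heis.conj_eq, hθmul] at h
    have hne : c y x.u - c x.u y ≠ 0 := by
      rw [← neg_sub, hcA]; exact neg_ne_zero.2 hy
    exact (mul_eq_zero.1 (show (z ^ (c y x.u - c x.u y).val - 1) * ρθ.character x = 0 by
      linear_combination h)).resolve_left (sub_ne_zero.2 (pow_val_ne_one hzp hz1 hne))
  have hd1 : ρθ.character 1 = (d : ℂ) := by
    rw [Representation.char_one, Module.finrank_fin_fun]
  have hcenv : ∀ a : ZMod p, ρθ.character (Heis.cen a) = z ^ a.val * (d : ℂ) := fun a => by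
    rw [← hd1, ← hθmul, one_mul]
  have hrange : ∀ x : Heis c, x ∉ Set.range (Heis.cen : ZMod p → Heis c) → x.u ≠ 0 :=
    fun x hx h0 => hx ⟨x.z, Heis.ext h0.symm rfl⟩
  have hinjc : Function.Injective (Heis.cen : ZMod p → Heis c) := fun a b h => congrArg Heis.z h
  have hd2 : d * d = Nat.card U := by
    have h := classInner_irr_self (⟨_, d, ρθ, hρθ, rfl⟩ : IrrCharacter (Heis c))
    rw [classInner_supported _ hinjc hzp _ _ (d : ℂ) (d : ℂ) hcenv hcenv
      fun x hx => hθoff x (hrange x hx), Heis.card_eq, map_natCast] at h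
    rw [div_eq_one_iff_eq (by exact_mod_cast mul_ne_zero Nat.card_pos.ne' hp.out.ne_zero)] at h
    have h' : p * (d * d) = p * Nat.card U := by
      rw [mul_comm p (Nat.card U), ← mul_assoc]; exact_mod_cast h
    exact Nat.eq_of_mul_eq_mul_left hp.out.pos h'
  have hUp : ∃ k, Nat.card U = p ^ k := ⟨Module.finrank (ZMod p) U, by
    rw [Module.natCard_eq_pow_finrank (K := ZMod p), Nat.card_zmod]⟩
  have hindex : N.index = Nat.card H := by
    have h1 := N.card_mul_index
    rw [← Nat.card_congr e.toEquiv, SemidirectProduct.card] at h1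
    exact Nat.eq_of_mul_eq_mul_left Nat.card_pos h1
  have hinvN : IsInvariant N ρN := by
    rintro g ⟨_, x, rfl⟩
    have hφθ : ∀ (h : H) (x : Heis c), ρθ.character (φ h x) = ρθ.character x := by
      intro h x
      by_cases hx : x.u = 0
      · congr 1
        exact Heis.ext (by simp [φ, hx]) rfl
      · rw [hθoff x hx, hθoff]
        simp only [φ, Heis.act_u]
        exact fun h0 => hx ((map_eq_zero_iff _ (fun a b hab => by
          simpa using congrArg (ρ h⁻¹) hab)).1 h0)
    have key : normalConjHom N g ⟨inl x, x, rfl⟩ = e (g.left * φ g.right x * g.left⁻¹) := by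
      refine Subtype.ext ?_
      show g * inl x * g⁻¹ = inl _
      conv_lhs => rw [← SemidirectProduct.inl_left_mul_inr_right g]
      show inl g.left * inr g.right * inl x * (inl g.left * inr g.right)⁻¹ = _
      rw [mul_assoc (inl g.left), hconjr, map_mul, map_mul, map_inv]
      simp only [mul_inv_rev, mul_assoc, mul_inv_cancel_left]
    have hch : ∀ y, ρN.character (e y) = ρθ.character y := fun y => by
      simp [Representation.character, ρN]
    rw [key, hch, Representation.char_conj, hφθ, ← hch x]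
    rfl
  have hcop' : ∀ q : ℕ, q.Prime → q ∣ N.index → q ∣ d * orderOf (detHom ρN) → False := by
    intro q hq h1 h2
    rw [hindex] at h1
    have hqp : q ≠ p := fun e => hcop (e ▸ h1)
    obtain ⟨k, hk⟩ := hUp
    have hq' : ∀ m, ¬ q ∣ p ^ m := fun m h =>
      hqp ((Nat.prime_dvd_prime_iff_eq hq hp.out).1 (hq.dvd_of_dvd_pow h))
    rcases hq.dvd_mul.1 h2 with h | h
    · exact hq' k (hk ▸ hd2 ▸ dvd_mul_of_dvd_left h d)
    · have h3 : orderOf (detHom ρN) ∣ Nat.card N := by
        refine orderOf_dvd_of_pow_eq_one (MonoidHom.ext fun k => ?_)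
        rw [MonoidHom.pow_apply, ← map_pow, pow_card_eq_one', map_one, MonoidHom.one_apply]
      rw [← Nat.card_congr e.toEquiv, Heis.card_eq, hk, ← pow_succ] at h3
      exact hq' _ (h.trans h3)
  obtain ⟨σ, hσ⟩ := extends_of_sylow N ρN hinvN fun q hq h1 h2 => (hcop' q hq h1 h2).elim
  have hσ' : ∀ x, σ (inl x) = ρθ x := fun x => by
    have := hσ (e x)
    rw [he] at this
    rw [this]; simp [ρN]
  set η : Γ → ℂ := σ.character with hη
  have hηchar : IsCharacter Γ η := isCharacter_character σ
  -- multiplication by the centre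
  have hηmul : ∀ (g : Γ) (a : ZMod p), η (g * inl (Heis.cen a)) = z ^ a.val * η g := fun g a => by
    simp only [hη, Representation.character, map_mul, hσ', hscal, Module.End.mul_eq_comp,
      LinearMap.comp_smul, LinearMap.comp_id, map_smul, smul_eq_mul]
  -- the product of the values at inverse elements
  have hprod : ∀ h : H, η (inr h) * conj (η (inr h)) = (fixCard ρ h : ℂ) := by
    intro h
    let T : (Fin d → ℂ) →ₗ[ℂ] (Fin d → ℂ) := ∑ x : Heis c, σ (inl x * inr h * inl x⁻¹)
    have hT : ∀ y, T * ρθ y = ρθ y * T := by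
      intro y
      simp only [T, ← hσ', Finset.sum_mul, Finset.mul_sum, ← map_mul]
      rw [← Equiv.sum_comp (Equiv.mulLeft y)]
      refine Finset.sum_congr rfl fun x _ => ?_
      congr 1
      simp only [Equiv.coe_mulLeft, mul_inv_rev, map_mul, map_inv]
      group
    obtain ⟨a, ha⟩ := schur_scalar ρθ T hT
    have h1 : (Nat.card (Heis c) : ℂ) * η (inr h) = a * d := by
      have := congrArg (LinearMap.trace ℂ _) ha
      rw [trace_smul_id, Module.finrank_fin_fun] at this
      rw [← this, map_sum, Finset.sum_congr rfl (g := fun _ => η (inr h)) fun x _ => ?_,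
        Finset.sum_const, Finset.card_univ, nsmul_eq_mul, Nat.card_eq_fintype_card]
      rw [map_inv]
      exact Representation.char_conj σ _ _
    have h2 : ∑ x : Heis c, ρθ.character (x * φ h x⁻¹) = a * conj (η (inr h)) := by
      rw [← isCharacter_inv hηchar, ← map_inv]
      have := congrArg (fun f => LinearMap.trace ℂ _ (f * σ (inr h⁻¹))) ha
      simp only [T, Finset.sum_mul, map_sum, ← map_mul] at this
      rw [show (a • LinearMap.id : (Fin d → ℂ) →ₗ[ℂ] _) * σ (inr h⁻¹) = a • σ (inr h⁻¹) from by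
        ext; simp, map_smul, smul_eq_mul] at this
      refine Eq.trans (Finset.sum_congr rfl fun x _ => ?_) this
      rw [mul_assoc (inl x), hconjr, map_inv inr, ← mul_assoc, mul_inv_cancel_right, ← map_mul,
        hσ']
      rfl
    have h3 : ∑ x : Heis c, ρθ.character (x * φ h x⁻¹) =
        (Nat.card {x : Heis c // ρ h x.u = x.u} : ℂ) * d := by
      rw [Nat.card_eq_fintype_card, Fintype.card_subtype, ← nsmul_eq_mul, ← Finset.sum_const,
        Finset.sum_filter]
      refine Finset.sum_congr rfl fun x _ => ?_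
      split_ifs with hx
      · rw [show φ h x⁻¹ = x⁻¹ from Heis.ext (by simp [φ, hx]) rfl, mul_inv_cancel, hd1]
      · exact hθoff _ fun h0 => hx (by
          simp [φ] at h0; exact (add_neg_eq_zero.1 h0).symm)
    have hfix : Nat.card {x : Heis c // ρ h x.u = x.u} = fixCard ρ h * p := by
      refine Eq.trans (Nat.card_congr (β := {w : U // ρ h w = w} × ZMod p)
        { toFun := fun x => (⟨x.1.u, x.2⟩, x.1.z)
          invFun := fun x => ⟨⟨x.1.1, x.2⟩, x.1.2⟩
          left_inv := fun x => rfl
          right_inv := fun x => rfl }) ?_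
      rw [Nat.card_prod, Nat.card_zmod, fixCard]
    rw [h2, hfix] at h3
    rw [Heis.card_eq, ← hd2] at h1
    have hd0 : (d : ℂ) ≠ 0 := fun e => (Nat.card_pos (α := U)).ne' (by
      rw [← hd2]; simp [Nat.cast_eq_zero.1 e])
    have hp0 : (p : ℂ) ≠ 0 := Nat.cast_ne_zero.2 hp.out.ne_zero
    refine mul_left_cancel₀ (mul_ne_zero (mul_ne_zero hd0 hd0) hp0) ?_
    push_cast at h1 h3
    linear_combination (conj (η (inr h))) * h1 + (d : ℂ) * h3
  refine ⟨fun h => η (inr h), char_mem_span (isCharacter_comp hηchar inr), fun h => ?_⟩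
  -- the Heisenberg group of the fixed vectors
  let H₀ : Subgroup (Heis c) := MonoidHom.eqLocus (φ h).toMonoidHom (MonoidHom.id _)
  have := Fintype.ofFinite H₀
  have hH₀ : ∀ x : Heis c, x ∈ H₀ ↔ ρ h x.u = x.u :=
    fun x => ⟨fun hx => congrArg Heis.u hx, fun hx => Heis.ext hx rfl⟩
  have hcard₀ : Nat.card H₀ = fixCard ρ h * p := by
    refine Eq.trans (Nat.card_congr (β := {w : U // ρ h w = w} × ZMod p)
      { toFun := fun x => (⟨x.1.u, (hH₀ _).1 x.2⟩, x.1.z)
        invFun := fun x => ⟨⟨x.1.1, x.2⟩, (hH₀ _).2 x.1.2⟩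
        left_inv := fun x => rfl
        right_inv := fun x => rfl }) ?_
    rw [Nat.card_prod, Nat.card_zmod, fixCard]
  have hcen₀ : ∀ a : ZMod p, (Heis.cen a : Heis c) ∈ H₀ :=
    fun a => (hH₀ _).2 (by simp [Heis.cen])
  let j : ZMod p → H₀ := fun a => ⟨Heis.cen a, hcen₀ a⟩
  have hinjj : Function.Injective j := fun a b h => hinjc (congrArg Subtype.val h)
  -- vanishing off the centre
  have hvan : ∀ f : H₀ → ℂ, IsClassFunction H₀ f →
      (∀ x a, f (x * j a) = z ^ a.val * f x) → ∀ x, x ∉ Set.range j → f x = 0 := by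
    intro f hf hmul x hx
    have hxu : x.1.u ≠ 0 := fun h0 => hx ⟨x.1.z, Subtype.ext (Heis.ext h0.symm rfl)⟩
    obtain ⟨y, hy⟩ : ∃ y : fixSub ρ h, A (y : U) x.1.u ≠ 0 := by
      by_contra hcon
      push Not at hcon
      refine hxu (congrArg Subtype.val (fix_nondeg hcop ρ A.flip (fun g a b => hinv g b a)
        (fun a ha => hnd a fun b => ?_) h ⟨x.1.u, (hH₀ _).1 x.2⟩ fun y => hcon y))
      have := halt (a + b)
      have hb := ha b
      simp only [LinearMap.BilinForm.flip_apply] at hb
      simp only [map_add, LinearMap.add_apply, halt, hb, zero_add, add_zero] at this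
      exact this
    let g : H₀ := ⟨⟨y, 0⟩, (hH₀ _).2 y.2⟩
    have hconj : g * x * g⁻¹ = x * j (c y x.1.u - c x.1.u y) := Subtype.ext (Heis.conj_eq _ _)
    have h1 := hf x g
    rw [hconj, hmul] at h1
    exact (mul_eq_zero.1 (show (z ^ (c y x.1.u - c x.1.u y).val - 1) * f x = 0 by
      linear_combination h1)).resolve_left (sub_ne_zero.2 (pow_val_ne_one hzp hz1 (by rw [hcA]; exact hy)))
  let F : H₀ → ℂ := fun x => η (inr h * inl x)
  have hcomm : ∀ x : H₀, Commute (inr h) (inl (x : Heis c)) := fun x => by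
    have := hconjr h x
    rwa [show φ h (x : Heis c) = x from x.2] at this
  have hFmul : ∀ x a, F (x * j a) = z ^ a.val * F x := fun x a => by
    show η (inr h * inl (_ * Heis.cen a)) = _
    rw [map_mul, ← mul_assoc, hηmul]
  have hFclass : IsClassFunction H₀ F := fun x g => by
    show η _ = η _
    rw [Subgroup.coe_mul, Subgroup.coe_mul, Subgroup.coe_inv, map_mul, map_mul, map_inv,
      show inr h * (inl (g : Heis c) * inl (x : Heis c) * (inl (g : Heis c))⁻¹) =
        inl (g : Heis c) * (inr h * inl (x : Heis c)) * (inl (g : Heis c))⁻¹ by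
        rw [← mul_assoc, ← mul_assoc, (hcomm g).eq]; simp only [mul_assoc]]
    exact Representation.char_conj σ _ _
  -- a character of the fixed Heisenberg group with the same central character
  let θ' : H₀ → ℂ := fun x => ρθ.character x
  have hθ'char : IsCharacter H₀ θ' := isCharacter_comp (isCharacter_character ρθ) H₀.subtype
  obtain ⟨θ₀, hθ₀⟩ : ∃ χ : IrrCharacter H₀, classInner θ' χ ≠ 0 := by
    by_contra hcon
    push Not at hcon
    have h0 := congrFun (classFun_eq_zero_of_perp (f := θ')
      (isClassFunction_of_isCharacter hθ'char) hcon) 1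
    have hd0 : (d : ℂ) ≠ 0 := fun e => (Nat.card_pos (α := U)).ne' (by
      rw [← hd2]; simp [Nat.cast_eq_zero.1 e])
    exact hd0 (hd1.symm.trans h0)
  obtain ⟨d₀, -, hd₀⟩ := isIrrCharacter_degree θ₀.2
  obtain ⟨m₀, ρ₀, hρ₀, hρ₀χ⟩ := θ₀.2
  have := hρ₀
  have hjc : ∀ a, j a ∈ Subgroup.center H₀ := fun a => Subgroup.mem_center_iff.2 fun x =>
    Subtype.ext (Subgroup.mem_center_iff.1 (Heis.cen_mem_center a) _)
  choose t ht using fun a => exists_scalar_of_mem_center ρ₀ (hjc a)
  have hθ₀mul' : ∀ x a, (θ₀ : H₀ → ℂ) (x * j a) = t a * (θ₀ : H₀ → ℂ) x := fun x a => by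
    simp only [← hρ₀χ, Representation.character, map_mul, ht, Module.End.mul_eq_comp,
      LinearMap.comp_smul, LinearMap.comp_id, map_smul, smul_eq_mul]
  have htz : ∀ a, t a = z ^ a.val := by
    intro a
    have hsh : classInner θ' θ₀ = z ^ a.val * conj (t a) * classInner θ' θ₀ := by
      conv_lhs => rw [classInner, ← Equiv.sum_comp (Equiv.mulRight (j a))]
      rw [classInner, Finset.mul_sum, Finset.mul_sum, Finset.mul_sum]
      refine Finset.sum_congr rfl fun x _ => ?_
      rw [Equiv.coe_mulRight, hθ₀mul', map_mul,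
        show θ' (x * j a) = z ^ a.val * θ' x from hθmul x a]
      ring
    have h1 : z ^ a.val * conj (t a) = 1 := by
      refine mul_right_cancel₀ hθ₀ ?_
      rw [one_mul, ← hsh]
    have h2 : conj z ^ a.val * t a = 1 := by
      simpa using congrArg conj h1
    have h3 : z ^ a.val * conj z ^ a.val = 1 := by rw [← mul_pow, conj_root_mul hzp, one_pow]
    linear_combination z ^ a.val * h2 - t a * h3
  have hθ₀mul : ∀ x a, (θ₀ : H₀ → ℂ) (x * j a) = z ^ a.val * (θ₀ : H₀ → ℂ) x :=
    fun x a => by rw [hθ₀mul', htz]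
  have hval : ∀ (f : H₀ → ℂ), (∀ x a, f (x * j a) = z ^ a.val * f x) →
      ∀ a, f (j a) = z ^ a.val * f 1 := fun f hf a => by rw [← hf, one_mul]
  have hπ0 : (fixCard ρ h : ℂ) ≠ 0 := Nat.cast_ne_zero.2
    (Nat.card_pos_iff.2 ⟨⟨0, map_zero _⟩, inferInstance⟩).ne'
  have hd₀2 : (d₀ : ℂ) * d₀ = (fixCard ρ h : ℂ) := by
    have h1 := classInner_irr_self θ₀
    rw [classInner_supported j hinjj hzp _ _ _ _ (hval _ hθ₀mul) (hval _ hθ₀mul)
      (hvan _ (isClassFunction_irr θ₀) hθ₀mul), hd₀, map_natCast, hcard₀, Nat.cast_mul,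
      div_eq_one_iff_eq (mul_ne_zero hπ0 (Nat.cast_ne_zero.2 hp.out.ne_zero))] at h1
    refine mul_left_cancel₀ (Nat.cast_ne_zero.2 hp.out.ne_zero : (p : ℂ) ≠ 0) ?_
    linear_combination h1
  have hd₀0 : (d₀ : ℂ) ≠ 0 := fun e => hπ0 (by rw [← hd₀2, e, zero_mul])
  have hs : ((Real.sqrt (fixCard ρ h) : ℝ) : ℂ) = d₀ := by
    have : (fixCard ρ h : ℝ) = (d₀ : ℝ) * d₀ := by exact_mod_cast hd₀2.symm
    rw [this, Real.sqrt_mul_self (Nat.cast_nonneg _)]; simp
  refine ⟨η (inr h) / d₀, ?_, ?_, by rw [hs, mul_div_cancel₀ _ hd₀0]⟩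
  · have hord : inr h ^ Nat.card H = 1 := by rw [← map_pow, pow_card_eq_one', map_one]
    have := twist_mem (isGeneralizedCharacter_of_isCharacter hηchar) (inl.comp H₀.subtype) (inr h)
      Nat.card_pos.ne' hcomm hord hHn
      (isGeneralizedCharacter_of_isCharacter (isCharacter_irr θ₀))
    have e1 : classInner F (θ₀ : H₀ → ℂ) = η (inr h) / d₀ := by
      rw [classInner_supported j hinjj hzp _ _ _ _ (hval _ hFmul) (hval _ hθ₀mul)
        (hvan _ hFclass hFmul), hd₀, map_natCast, hcard₀, Nat.cast_mul, ← hd₀2]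
      have hF1 : F 1 = η (inr h) := by
        show η (inr h * inl 1) = _
        rw [map_one, mul_one]
      rw [hF1]
      field_simp [Nat.cast_ne_zero.2 hp.out.ne_zero]
    rw [← e1]
    exact this
  · rw [map_div₀, map_natCast, div_mul_div_comm, hprod, ← hd₀2, div_self (mul_ne_zero hd₀0 hd₀0)]

end CfsgLib.Char.KnorrReal
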