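import Cfsg.Agent.Lib.Char.KnorrReal.Heis
import Cfsg.Agent.Lib.Rep.SelfDualSplit
import Cfsg.Agent.Lib.Char.Degree
import Cfsg.Agent.Lib.Char.TwoNonzero

/-!
# The class number when a vector is real

If the centralizer of a vector has a faithful self-dual submodule, the values `χ (v * h)` averaged
against the weight of the submodule are non-zero cyclotomic integers, and the column orthogonality
bounds the sum of their squares by the order of the normal subgroup.
-/

set_option autoImplicit false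
set_option linter.unusedSectionVars false

namespace CfsgLib.Char.KnorrReal

open scoped ComplexConjugate
open Finset Cfsg CfsgLib CfsgLib.Char CfsgLib.Block

universe u v

variable {p : ℕ} [hp : Fact p.Prime]

/-- The restriction to an invariant submodule. -/
def restrictRep {H : Type u} [Group H] {W : Type v} [AddCommGroup W] [Module (ZMod p) W]
    (ρ : Representation (ZMod p) H W) (S : Submodule (ZMod p) W)
    (hS : ∀ h, ∀ w ∈ S, ρ h w ∈ S) : Representation (ZMod p) H S where
  toFun h := (ρ h).restrict (hS h)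
  map_one' := by ext w; simp
  map_mul' g h := by ext w; simp

/-- The representation of an additive action. -/
def repOf {H : Type u} [Group H] {W : Type v} [AddCommGroup W] [Module (ZMod p) W] (f : H → W → W)
    (hadd : ∀ h x y, f h (x + y) = f h x + f h y) (h1 : ∀ x, f 1 x = x)
    (hmul : ∀ g h x, f (g * h) x = f g (f h x)) : Representation (ZMod p) H W where
  toFun h := (AddMonoidHom.mk' (f h) (hadd h)).toZModLinearMap p
  map_one' := LinearMap.ext fun x => h1 x
  map_mul' g h := LinearMap.ext fun x => hmul g h x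

/-- The bilinear form of a biadditive pairing. -/
def bilOf {W : Type v} [AddCommGroup W] [Module (ZMod p) W] (f : W → W → ZMod p)
    (hl : ∀ x y z, f (x + y) z = f x z + f y z) (hr : ∀ x y z, f x (y + z) = f x y + f x z) :
    LinearMap.BilinForm (ZMod p) W :=
  LinearMap.mk₂ (ZMod p) f hl
    (fun c x y => map_smul ((AddMonoidHom.mk' (fun z => f z y) fun a b => hl a b y).toZModLinearMap p) c x)
    hr
    (fun c x y => map_smul ((AddMonoidHom.mk' (f x) (hr x)).toZModLinearMap p) c y)

/-- A self-dual module has a weight. -/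
theorem hasW_selfdual {H : Type u} [Group H] [Finite H] {W : Type v} [AddCommGroup W]
    [Module (ZMod p) W] [Finite W] {n : ℕ} (hn : 8 * p ∣ n) (hHn : Nat.card H ∣ n)
    (hcop : ¬ p ∣ Nat.card H) (ρ : Representation (ZMod p) H W)
    (B : LinearMap.BilinForm (ZMod p) W) (hinv : ∀ h x y, B (ρ h x) (ρ h y) = B x y)
    (hnd : ∀ x, (∀ y, B x y = 0) → x = 0) : HasW H n (fixCard ρ) := by
  classical
  have hG : (Nat.card H : ZMod p) ≠ 0 := fun h => hcop ((ZMod.natCast_eq_zero_iff ..).1 h)
  have hnd' : CfsgLib.Rep.SelfDualSplit.Nd (⊤ : Submodule (ZMod p) W) B :=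
    fun x _ h0 => hnd x fun y => h0 y trivial
  obtain ⟨S, T, hS, hT, hd, hs, ⟨A, hA1, hA2, hA3⟩, ⟨Q, hQ1, hQ2, hQ3, hQ4⟩⟩ :=
    CfsgLib.Rep.SelfDualSplit.decomp hG _ ⊤ rfl (fun g x _ => trivial) B
      (fun g x _ y _ => hinv g x y) hnd'
  have hST : IsCompl S T := ⟨disjoint_iff.2 hd, codisjoint_iff.2 hs⟩
  let ρS := restrictRep ρ S hS
  let ρT := restrictRep ρ T hT
  have hfix : fixCard ρ = fun h => fixCard ρS h * fixCard ρT h := by
    funext h
    let E := Submodule.prodEquivOfIsCompl S T hST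
    have hE : ∀ q, ρ h (E q) = E (ρS h q.1, ρT h q.2) := fun q => by
      rw [Submodule.coe_prodEquivOfIsCompl', Submodule.coe_prodEquivOfIsCompl', map_add]
      rfl
    rw [fixCard, fixCard, fixCard, ← Nat.card_prod]
    refine (Nat.card_congr (E.toEquiv.subtypeEquiv
      (p := fun q => ρS h q.1 = q.1 ∧ ρT h q.2 = q.2) fun q => ?_).symm).trans
      (Nat.card_congr (Equiv.subtypeProdEquivProd (α := S) (β := T)
        (p := fun a => ρS h a = a) (q := fun b => ρT h b = b)))
    show _ ↔ ρ h (E q) = E q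
    rw [hE, E.injective.eq_iff, Prod.ext_iff]
  rw [hfix]
  refine HasW.mul (hasW_alt hHn hcop ρS (A.restrict S) (fun x => hA1 x)
    (fun h x y => hA2 h x x.2 y y.2)
    fun x hx => Subtype.ext (hA3 x x.2 fun y hy => hx ⟨y, hy⟩)) ?_
  rcases eq_or_ne p 2 with h2 | h2
  · refine hasW_const (N := Nat.card T) ?_ fun h => ?_
    · rw [Module.natCard_eq_pow_finrank (K := ZMod p), Nat.card_zmod]
      exact sqrt_prime_pow_mem hn _
    · exact Nat.card_congr (Equiv.subtypeUnivEquiv fun w =>
        Subtype.ext (hQ4 (by subst h2; rfl) h w w.2))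
  · exact hasW_symm hn h2 hcop ρT (Q.restrict T) (fun x y => hQ1 x y)
      (fun h x y => hQ2 h x x.2 y y.2) fun x hx => Subtype.ext (hQ3 x x.2 fun y hy => hx ⟨y, hy⟩)

variable {X : Type u} [Group X]

/-- A conjugation carrying `v * h` to `v * h'` splits along the complement. -/
theorem conj_parts [Finite X] {V G : Subgroup X} [V.Normal]
    (hVab : ∀ a ∈ V, ∀ b ∈ V, a * b = b * a) (hGV : Subgroup.IsComplement' V G) {v : X}
    (hv : v ∈ V) (hvp : v ^ p = 1) (hcop : ¬ p ∣ Nat.card G) {h h' : X} (hh : h ∈ G) (hh' : h' ∈ G)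
    (hc : Commute v h) (hc' : Commute v h') {x : X} (hx : x * (v * h) * x⁻¹ = v * h') :
    ∃ u ∈ V, ∃ g ∈ G, x = u * g ∧ Commute g v ∧ g * h * g⁻¹ = h' ∧ Commute u h' := by
  set m := Nat.card G
  have hhm : ∀ k ∈ G, k ^ m = 1 := fun k hk =>
    congrArg Subtype.val (pow_card_eq_one' (x := (⟨k, hk⟩ : G)))
  obtain ⟨s, hs⟩ := exists_pow_eq_self_of_coprime (x := v) (n := m)
    ((hp.out.coprime_iff_not_dvd.2 hcop).symm.coprime_dvd_right (orderOf_dvd_of_pow_eq_one hvp))
  have hpw : ∀ k, (Commute v k) → k ∈ G → ((v * k) ^ m) ^ s = v := fun k hk hkG => by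
    rw [hk.mul_pow, hhm k hkG, mul_one, hs]
  have e : x * v * x⁻¹ = v := by
    conv_lhs => rw [← hpw h hc hh]
    rw [← conj_pow, ← conj_pow, hx, hpw h' hc' hh']
  have e' : x * h * x⁻¹ = h' := by
    have h1 : (x * v * x⁻¹) * (x * h * x⁻¹) = v * h' := by rw [← hx]; group
    rw [e] at h1
    exact mul_left_cancel h1
  obtain ⟨⟨⟨a, ha⟩, ⟨g, hg⟩⟩, hag : a * g = x⟩ := hGV.existsUnique x |>.exists
  subst hag
  have hgv : g * v * g⁻¹ = v := by
    have h1 : a * (g * v * g⁻¹) * a⁻¹ = v := Eq.trans (by group) e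
    rwa [hVab a ha _ ((inferInstance : V.Normal).conj_mem v hv g), mul_inv_cancel_right] at h1
  have hk : g * h * g⁻¹ ∈ G := G.mul_mem (G.mul_mem hg hh) (G.inv_mem hg)
  set k := g * h * g⁻¹ with hkdef
  have hak : a * k * a⁻¹ = h' := Eq.trans (by rw [hkdef]; group) e'
  have hV : h' * k⁻¹ ∈ V := by
    rw [← hak, mul_assoc, mul_assoc]
    exact V.mul_mem ha (by
      rw [← mul_assoc]; exact (inferInstance : V.Normal).conj_mem _ (V.inv_mem ha) k)
  have hkh : h' = k := by
    rw [← mul_inv_eq_one]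
    exact Subgroup.disjoint_def.1 hGV.disjoint hV (G.mul_mem hh' (G.inv_mem hk))
  refine ⟨a, ha, g, hg, rfl, mul_inv_eq_iff_eq_mul.1 hgv, hkh.symm, ?_⟩
  rw [← hkh] at hak
  exact mul_inv_eq_iff_eq_mul.1 hak

open scoped Classical in
/-- The theorem of Knörr on the class number with a real vector. -/
theorem card_conjClasses_le [Finite X] (V : Subgroup X) [V.Normal]
    (hVexp : ∀ v ∈ V, v ^ p = 1) (hidx : ¬ p ∣ V.index)
    (hself : Subgroup.centralizer (V : Set X) = V) (G : Subgroup X)
    (hGV : Subgroup.IsComplement' V G) (v : X) (hv : v ∈ V) (U : Subgroup X) (hUV : U ≤ V)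
    (hUfaith : ∀ h ∈ G, h * v * h⁻¹ = v → (∀ u ∈ U, h * u * h⁻¹ = u) → h = 1)
    (H : Subgroup X) (hH : ∀ g : X, g ∈ H ↔ g ∈ G ∧ Commute g v)
    (π : H → ℕ)
    (hπ : ∀ h, π h = Nat.card (U ⊓ Subgroup.centralizer ({(h : X)} : Set X) : Subgroup X))
    (hπmem : (fun h => (π h : ℂ)) ∈
      charSpan H (8 * p * Nat.card X))
    (hW : HasW H (8 * p * Nat.card X) π) :
    Nat.card (ConjClasses X) ≤ Nat.card V := by
  set n := 8 * p * Nat.card X with hn
  letI := Fintype.ofFinite X
  letI := Fintype.ofFinite H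
  haveI := Fintype.ofFinite (IrrCharacter X)
  have hn8 : 8 * p ∣ n := dvd_mul_right _ _
  have hpn : p ∣ n := (dvd_mul_left p 8).trans hn8
  have hXn : Nat.card X ∣ n := dvd_mul_left _ _
  have hn0 : n ≠ 0 := mul_ne_zero (mul_ne_zero (by norm_num) hp.out.ne_zero) Nat.card_pos.ne'
  have hVab : ∀ a ∈ V, ∀ b ∈ V, a * b = b * a := fun a ha b hb =>
    (Subgroup.mem_centralizer_iff.1 (hself.ge hb)) a ha
  have hGcard : Nat.card G = V.index := by rw [← hGV.symm.card_left]; rfl
  have hGn : ¬ p ∣ Nat.card G := hGcard ▸ hidx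
  have hHn : ¬ p ∣ Nat.card H := fun h => hGn (h.trans (Subgroup.card_dvd_of_le fun g hg => ((hH g).1 hg).1))
  have hcomm : ∀ h : H, Commute v (h : X) := fun h =>
    ((hH h).1 h.2).2.symm
  have hHG : ∀ h : H, (h : X) ∈ G := fun h => ((hH h).1 h.2).1
  -- the order of the submodule and the values of `π`
  obtain ⟨K, hK⟩ : ∃ K, Nat.card U = p ^ K :=
    IsPGroup.iff_card.1 (fun a => ⟨1, by
      rw [pow_one]; exact Subtype.ext (by rw [Subgroup.coe_pow]; exact hVexp a (hUV a.2))⟩)
  have hj : ∀ h : H, ∃ j ≤ K, π h = p ^ j := fun h => by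
    have hd : π h ∣ Nat.card U := hπ h ▸ Subgroup.card_dvd_of_le inf_le_left
    rw [hK] at hd
    exact (Nat.dvd_prime_pow hp.out).1 hd
  choose j hjK hjπ using hj
  have hfaith : ∀ h : H, j h = K → h = 1 := by
    intro h hh
    have he : U ⊓ Subgroup.centralizer ({(h : X)} : Set X) = U := Subgroup.eq_of_le_of_card_ge
      inf_le_left (by rw [← hπ, hjπ, hh, hK])
    refine Subtype.ext (hUfaith h (hHG h) ?_ fun u hu => ?_)
    · rw [← (hcomm h).eq, mul_inv_cancel_right]
    · have := Subgroup.mem_centralizer_singleton_iff.1 (he.ge hu).2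
      rw [← this, mul_inv_cancel_right]
  -- the weight
  obtain ⟨w, hw, hω⟩ := hW
  choose ω hωm hω1 hωw using hω
  set s : ℕ → ℂ := fun k => ((Real.sqrt ((p ^ k : ℕ) : ℝ) : ℝ) : ℂ) with hsdef
  have hsmem : ∀ k, s k ∈ cycInt n := fun k => sqrt_prime_pow_mem hn8 k
  have hsmul : ∀ a b, s (a + b) = s a * s b := fun a b => by
    simp only [hsdef]
    rw [pow_add, Nat.cast_mul, Real.sqrt_mul (Nat.cast_nonneg _), Complex.ofReal_mul]
  have hsconj : ∀ a, conj (s a) = s a := fun a => Complex.conj_ofReal _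
  have hssq : ∀ a, s a * s a = (p : ℂ) ^ a := fun a => by
    simp only [hsdef]
    rw [← Complex.ofReal_mul, Real.mul_self_sqrt (Nat.cast_nonneg _)]
    push_cast; rfl
  have hs0 : s 0 = 1 := by simp [hsdef]
  have hp0 : (p : ℂ) ≠ 0 := Nat.cast_ne_zero.2 hp.out.ne_zero
  have hsne : ∀ a, s a ≠ 0 := fun a h => pow_ne_zero a hp0 (by rw [← hssq, h, zero_mul])
  set ψ : H → ℂ := fun h => s (K - j h) * ω h with hψ
  have hψw : ∀ h, ψ h = s K * w h / (π h : ℂ) := fun h => by
    have e : ((Real.sqrt (π h) : ℝ) : ℂ) = s (j h) := by rw [hjπ]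
    rw [hψ, hωw, e, hjπ, Nat.cast_pow, ← hssq (j h),
      show s K = s (K - j h) * s (j h) by rw [← hsmul, Nat.sub_add_cancel (hjK h)]]
    field_simp [hsne]
  have hψmem : ∀ h, ψ h ∈ cycInt n := fun h => mul_mem (hsmem _) (hωm h)
  obtain ⟨M, hM⟩ := exists_pow_div_mem hp.out.ne_zero K π (fun h => ⟨j h, hjK h, hjπ h⟩) hπmem
  have hΨ : (fun h => (p : ℂ) ^ M * ψ h) ∈ charSpan H n := by
    have e : (fun h => (p : ℂ) ^ M * ψ h) =
        (fun _ => s K) * (w * fun h => (p : ℂ) ^ M / (π h : ℂ)) := by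
      funext h
      simp only [Pi.mul_apply, hψw]
      ring
    rw [e]
    exact mul_mem (const_mem_span (hsmem K)) (mul_mem hw hM)
  have hψclass : ∀ h h' : H, IsConj h h' → ψ h' = ψ h := by
    intro h h' hc
    obtain ⟨g, rfl⟩ := isConj_iff.1 hc
    exact mul_left_cancel₀ (pow_ne_zero M hp0) (isClassFunction_of_mem_span hΨ h g)
  -- the weighted averages
  let f : IrrCharacter X → H → ℂ := fun χ h => (χ : X → ℂ) (v * h)
  let d : IrrCharacter X → ℂ := fun χ => classInner (f χ) ψ
  have hfmem : ∀ χ : IrrCharacter X, ∀ h : H, f χ h ∈ cycInt n := fun χ h =>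
    char_mem_cyc (isCharacter_irr χ) _ ((orderOf_dvd_natCard _).trans hXn)
  have hNd : ∀ χ, (Nat.card H : ℂ) * d χ = ∑ h, f χ h * conj (ψ h) := fun χ => by
    rw [show d χ = classInner (f χ) ψ from rfl, classInner,
      mul_inv_cancel_left₀ (Nat.cast_ne_zero.2 Nat.card_pos.ne')]
  have hdmem : ∀ χ, d χ ∈ cycInt n := by
    intro χ
    have h1 : (Nat.card H : ℂ) * d χ ∈ cycInt n := by
      rw [hNd]; exact sum_mem fun h _ => mul_mem (hfmem χ h) (conj_mem_cycInt (hψmem h))
    have h2 : (p : ℂ) ^ M * d χ ∈ cycInt n := by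
      have h3 := classInner_mem_of_span (f := f χ) (fun lam hlam =>
        twist_mem (isGeneralizedCharacter_of_isCharacter (isCharacter_irr χ)) H.subtype v
          hp.out.ne_zero hcomm (hVexp v hv) hpn
          (isGeneralizedCharacter_of_isCharacter hlam)) hΨ
      rwa [show (fun h => (p : ℂ) ^ M * ψ h) = (p : ℂ) ^ M • ψ from rfl, classInner_smul_right,
        map_pow, map_natCast] at h3
    obtain ⟨a, b, hab⟩ := Nat.isCoprime_iff_coprime.2
      (Nat.Coprime.pow_right M (hp.out.coprime_iff_not_dvd.2 hHn).symm :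
        (Nat.card H).Coprime (p ^ M))
    have e : d χ = (a : ℂ) * ((Nat.card H : ℂ) * d χ) + (b : ℂ) * ((p : ℂ) ^ M * d χ) := by
      have := congrArg (fun z : ℤ => (z : ℂ)) hab
      push_cast at this
      linear_combination (-(d χ)) * this
    rw [e]
    exact add_mem (mul_mem (intCast_mem _ _) h1) (mul_mem (intCast_mem _ _) h2)
  have hd0 : ∀ χ, d χ ≠ 0 := by
    intro χ h0
    have h1 := hNd χ
    rw [h0, mul_zero, ← Finset.add_sum_erase _ _ (Finset.mem_univ 1)] at h1
    have hj1 : j 1 = K := by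
      refine (Nat.pow_right_injective hp.out.two_le) (?_ : p ^ j 1 = p ^ K)
      rw [← hjπ, hπ, ← hK]
      rw [inf_eq_left.2 fun u _ => Subgroup.mem_centralizer_singleton_iff.2 (by simp)]
    have hψ1 : ψ 1 = ω 1 := by rw [hψ]; simp [hj1, hs0]
    set y : ℂ := ∑ h ∈ (Finset.univ : Finset H).erase 1,
      f χ h * (s (K - j h - 1) * conj (ω h)) with hy
    have hymem : y ∈ cycInt n := sum_mem fun h _ =>
      mul_mem (hfmem χ h) (mul_mem (hsmem _) (conj_mem_cycInt (hωm h)))
    have hrest : ∑ h ∈ (Finset.univ : Finset H).erase 1, f χ h * conj (ψ h) = s 1 * y := by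
      rw [hy, Finset.mul_sum]
      refine Finset.sum_congr rfl fun h hh => ?_
      have hne : j h ≠ K := fun e => (Finset.mem_erase.1 hh).1 (hfaith h e)
      have := hjK h
      rw [hψ, map_mul, hsconj, show s (K - j h) = s 1 * s (K - j h - 1) by
        rw [← hsmul]; congr 1; omega]
      ring
    rw [hrest, hψ1] at h1
    have hvv : (χ : X → ℂ) v = s 1 * (-(ω 1) * y) := by
      have hf1 : f χ 1 = (χ : X → ℂ) v := by simp [f]
      rw [hf1] at h1
      linear_combination (-(χ : X → ℂ) v) * hω1 1 - ω 1 * h1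
    obtain ⟨r, hr, hcong⟩ := value_pow_congr
      (isGeneralizedCharacter_of_isCharacter (isCharacter_irr χ)) hp.out (hVexp v hv)
    obtain ⟨deg, -, hdeg⟩ := isIrrCharacter_degree χ.2
    set q : ℂ := s 1 ^ (p - 2) * (-(ω 1) * y) ^ p - r with hq
    have hqmem : q ∈ cycInt n := sub_mem (mul_mem (pow_mem (hsmem 1) _)
      (pow_mem (mul_mem (neg_mem (hωm 1)) hymem) _)) (cycInt_mono hpn hr)
    have hdq : q * (p : ℂ) = ((deg : ℤ) : ℂ) := by
      rw [hvv, hdeg, mul_pow] at hcong
      have h2 : s 1 ^ p = s 1 ^ (p - 2) * (p : ℂ) := by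
        conv_lhs => rw [show p = p - 2 + 2 by have := hp.out.two_le; omega]
        rw [pow_add, pow_two, hssq, pow_one]
      rw [h2] at hcong
      push_cast
      linear_combination hcong
    obtain ⟨z, hz⟩ := TwoNonzero.exists_int_of_rat (isIntegral_of_mem_cycInt hn0 hqmem) hp.out.ne_zero hdq
    rw [hz] at hdq
    have hdvd : p ∣ deg := Int.natCast_dvd_natCast.1 ⟨z, by
      have : z * (p : ℤ) = (deg : ℤ) := by exact_mod_cast hdq
      linarith⟩
    exact hidx (hdvd.trans (degree_dvd_index_abelian X V hVab χ χ.2 deg hdeg))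
  -- conjugacy in the coset of `v`
  have hconj : ∀ h h' : H, IsConj (v * (h : X)) (v * h') ↔ IsConj h h' := by
    intro h h'
    constructor
    · intro hc
      obtain ⟨x, hx⟩ := isConj_iff.1 hc
      obtain ⟨a, -, g, hg, -, hgv, hgh, -⟩ := conj_parts hVab hGV hv (hVexp v hv) hGn (hHG h) (hHG h')
        (hcomm h) (hcomm h') hx
      exact isConj_iff.2 ⟨⟨g, (hH g).2 ⟨hg, hgv⟩⟩, Subtype.ext hgh⟩
    · intro hc
      obtain ⟨g, rfl⟩ := isConj_iff.1 hc
      refine isConj_iff.2 ⟨g, ?_⟩
      push_cast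
      rw [← mul_assoc, ← (hcomm g).eq]
      group
  let cV : H → ℕ := fun h =>
    Nat.card (V ⊓ Subgroup.centralizer ({(h : X)} : Set X) : Subgroup X)
  have hcent : ∀ h : H, Nat.card (Subgroup.centralizer ({v * (h : X)} : Set X)) =
      cV h * Nat.card (Subgroup.centralizer ({h} : Set H)) := by
    intro h
    rw [← Nat.card_prod]
    have hc1 : ∀ q : (V ⊓ Subgroup.centralizer ({(h : X)} : Set X) : Subgroup X) ×
        Subgroup.centralizer ({h} : Set H),
        (q.1 : X) * ((q.2 : H) : X) ∈ Subgroup.centralizer ({v * (h : X)} : Set X) := by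
      intro q
      rw [Subgroup.mem_centralizer_singleton_iff]
      have a1 : Commute (q.1 : X) v := hVab _ q.1.2.1 v hv
      have a2 : Commute (q.1 : X) (h : X) := Subgroup.mem_centralizer_singleton_iff.1 q.1.2.2
      have a3 : Commute ((q.2 : H) : X) (h : X) :=
        congrArg Subtype.val (Subgroup.mem_centralizer_singleton_iff.1 q.2.2)
      exact ((a1.mul_right a2).mul_left ((hcomm q.2).symm.mul_right a3)).eq
    refine (Nat.card_eq_of_bijective (fun q => (⟨_, hc1 q⟩ :
      Subgroup.centralizer ({v * (h : X)} : Set X))) ⟨fun q r hqr => ?_, fun x => ?_⟩).symm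
    · have e := hGV.injective (a₁ := ((⟨q.1, q.1.2.1⟩ : V), (⟨_, hHG q.2.1⟩ : G)))
        (a₂ := ((⟨r.1, r.1.2.1⟩ : V), (⟨_, hHG r.2.1⟩ : G))) (congrArg Subtype.val hqr)
      exact Prod.ext (Subtype.ext (congrArg (fun t : ↥V × ↥G => (t.1 : X)) e))
        (Subtype.ext (Subtype.ext (congrArg (fun t : ↥V × ↥G => (t.2 : X)) e)))
    · obtain ⟨a, ha, g, hg, hxg, hgv, hgh, hah⟩ := conj_parts hVab hGV hv (hVexp v hv) hGn (hHG h)
        (hHG h) (hcomm h) (hcomm h) (x := (x : X))
        (by rw [Subgroup.mem_centralizer_singleton_iff.1 x.2, mul_inv_cancel_right])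
      refine ⟨(⟨a, ha, Subgroup.mem_centralizer_singleton_iff.2 hah⟩,
        ⟨⟨g, (hH g).2 ⟨hg, hgv⟩⟩,
          Subgroup.mem_centralizer_singleton_iff.2 (Subtype.ext (mul_inv_eq_iff_eq_mul.1 hgh))⟩),
        Subtype.ext hxg.symm⟩
  -- the sum of the squares
  let S : ℕ := ∑ h : H, p ^ (K - j h) * cV h
  have hsum : (∑ χ, d χ * conj (d χ)) * (Nat.card H : ℂ) = ((S : ℤ) : ℂ) := by
    have hN : (Nat.card H : ℂ) ≠ 0 := Nat.cast_ne_zero.2 Nat.card_pos.ne'
    refine mul_right_cancel₀ hN ?_
    calc (∑ χ, d χ * conj (d χ)) * (Nat.card H : ℂ) * (Nat.card H : ℂ)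
        = ∑ χ, ((Nat.card H : ℂ) * d χ) * conj ((Nat.card H : ℂ) * d χ) := by
          rw [Finset.sum_mul, Finset.sum_mul]
          refine Finset.sum_congr rfl fun χ _ => ?_
          rw [map_mul, map_natCast]; ring
      _ = ∑ h : H, ∑ h' : H, (conj (ψ h) * ψ h') *
            ∑ χ : IrrCharacter X, (χ : X → ℂ) (v * h) * conj ((χ : X → ℂ) (v * h')) := by
          rw [Finset.sum_congr rfl fun χ _ => by rw [hNd, map_sum, Finset.sum_mul_sum],
            Finset.sum_comm]
          refine Finset.sum_congr rfl fun h _ => ?_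
          rw [Finset.sum_comm]
          simp only [Finset.mul_sum]
          refine Finset.sum_congr rfl fun h' _ => Finset.sum_congr rfl fun χ _ => ?_
          simp only [f, map_mul, Complex.conj_conj]
          ring
      _ = ∑ h : H, ((p ^ (K - j h) * cV h * Nat.card H : ℕ) : ℂ) := by
          refine Finset.sum_congr rfl fun h _ => ?_
          have hterm : ∀ h' : H, (conj (ψ h) * ψ h') *
              ∑ χ : IrrCharacter X, (χ : X → ℂ) (v * h) * conj ((χ : X → ℂ) (v * h')) =
              if IsConj h h' then ((p ^ (K - j h) * (cV h *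
                Nat.card (Subgroup.centralizer ({h} : Set H))) : ℕ) : ℂ) else 0 := by
            intro h'
            rw [sum_irr_mul_conj]
            by_cases hc : IsConj h h'
            · rw [if_pos hc, if_pos ((hconj h h').2 hc), hψclass h h' hc, hcent h]
              push_cast
              rw [← hssq]
              rw [hψ, map_mul, hsconj]
              linear_combination (s (K - j h) * s (K - j h) *
                ((cV h : ℂ) * (Nat.card (Subgroup.centralizer ({h} : Set H)) : ℂ))) * hω1 h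
            · rw [if_neg hc, if_neg fun hc' => hc ((hconj h h').1 hc'), mul_zero]
          rw [Finset.sum_congr rfl fun h' _ => hterm h', ← Finset.sum_filter, Finset.sum_const,
            ← Fintype.card_subtype, ← Nat.card_eq_fintype_card, card_isConj, nsmul_eq_mul,
            ← Nat.cast_mul, Nat.cast_inj]
          rw [← (Subgroup.centralizer ({h} : Set H)).card_mul_index]
          ring
      _ = _ := by
          simp only [S]
          push_cast
          rw [Finset.sum_mul]
  obtain ⟨N, hNeq⟩ := TwoNonzero.exists_int_of_rat (isIntegral_of_mem_cycInt hn0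
    (sum_mem fun χ _ => mul_mem (hdmem χ) (conj_mem_cycInt (hdmem χ)))) Nat.card_pos.ne' hsum
  have hcount := card_le_sum_normSq hn0 (fun χ => ⟨d χ, hdmem χ⟩) hd0 hNeq
  rw [hNeq] at hsum
  have hS : (S : ℤ) = N * Nat.card H := by exact_mod_cast hsum.symm
  have hbound : ∀ h : H, p ^ (K - j h) * cV h ≤ Nat.card V := by
    intro h
    set C := Subgroup.centralizer ({(h : X)} : Set X)
    have e1 : Nat.card (U ⊓ C : Subgroup X) * C.relIndex U = Nat.card U := by
      rw [← Subgroup.card_mul_index (C.subgroupOf U), Subgroup.relIndex,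
        ← Subgroup.inf_subgroupOf_left C U,
        Nat.card_congr (Subgroup.subgroupOfEquivOfLe inf_le_left).toEquiv]
    have e2 : cV h * C.relIndex V = Nat.card V := by
      rw [← Subgroup.card_mul_index (C.subgroupOf V), Subgroup.relIndex,
        ← Subgroup.inf_subgroupOf_left C V,
        Nat.card_congr (Subgroup.subgroupOfEquivOfLe inf_le_left).toEquiv]
    have e3 : C.relIndex U = p ^ (K - j h) := by
      rw [← hπ, hjπ, hK, ← Nat.add_sub_cancel' (hjK h), pow_add] at e1
      exact Nat.eq_of_mul_eq_mul_left (pow_pos hp.out.pos _) e1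
    rw [← e3, ← e2, mul_comm]
    exact Nat.mul_le_mul_left _ (Subgroup.relIndex_le_of_le_right hUV
      (by rw [Subgroup.relIndex]; exact Subgroup.index_ne_zero_of_finite))
  have hSle : (S : ℤ) ≤ (Nat.card V : ℤ) * Nat.card H := by
    have h1 : S ≤ ∑ _h : H, Nat.card V := Finset.sum_le_sum fun h _ => hbound h
    rw [Finset.sum_const, Finset.card_univ, smul_eq_mul, ← Nat.card_eq_fintype_card,
      mul_comm] at h1
    exact_mod_cast h1
  have hNle : N ≤ (Nat.card V : ℤ) :=
    le_of_mul_le_mul_right (hS ▸ hSle) (by exact_mod_cast Nat.card_pos)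
  rw [← card_irr_eq_card_conjClasses, Nat.card_eq_fintype_card]
  exact_mod_cast hcount.trans hNle

end CfsgLib.Char.KnorrReal
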