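import Cfsg.Agent.Lib.Block.CycloNorm
import Cfsg.Agent.Lib.Char.Virtual
import Cfsg.Agent.Lib.Char.ExtendChar
import Cfsg.Agent.Lib.Char.Perm
import Mathlib.Analysis.SpecialFunctions.Complex.CircleAddChar

/-!
# Cyclotomic combinations of characters

The ring of combinations of characters with cyclotomic integral coefficients, and the integrality
of the averages `g ↦ χ (y * g)` against characters for an element `y` commuting with the group.
-/

set_option autoImplicit false
set_option linter.unusedSectionVars false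

namespace CfsgLib.Char.KnorrReal

open scoped ComplexConjugate
open Finset Cfsg CfsgLib CfsgLib.Char CfsgLib.Block

universe u v

theorem cycInt_mono {m n : ℕ} (h : m ∣ n) : cycInt m ≤ cycInt n :=
  Subring.closure_le.2 fun z hz => Subring.subset_closure (by
    obtain ⟨k, rfl⟩ := h
    show z ^ (m * k) = 1
    rw [pow_mul, hz, one_pow])

theorem char_mem_cyc {G : Type u} [Group G] [Finite G] {χ : G → ℂ} (hχ : IsCharacter G χ) (g : G)
    {n : ℕ} (hn : orderOf g ∣ n) : χ g ∈ cycInt n := by
  obtain ⟨d, ρ, rfl⟩ := hχ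
  obtain ⟨b, μ, h1, -, h3⟩ := exists_eigen_data ρ g
  have h := h3 1
  simp only [pow_one] at h
  rw [h]
  exact sum_mem fun i _ => cycInt_mono hn (mem_cycInt_of_pow (h1 i))

theorem pow_stdAddChar {m : ℕ} [NeZero m] (a : ZMod m) : ZMod.stdAddChar a ^ m = (1 : ℂ) := by
  rw [← AddChar.map_nsmul_eq_pow]
  simp

theorem stdAddChar_mem {m n : ℕ} [NeZero m] (h : m ∣ n) (a : ZMod m) :
    (ZMod.stdAddChar a : ℂ) ∈ cycInt n :=
  cycInt_mono h (mem_cycInt_of_pow (pow_stdAddChar a))

theorem conj_stdAddChar {m : ℕ} [NeZero m] (a : ZMod m) :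
    conj (ZMod.stdAddChar a : ℂ) = ZMod.stdAddChar (-a) := by
  rw [AddChar.map_neg_eq_inv, Complex.inv_eq_conj]
  exact Complex.norm_eq_one_of_pow_eq_one (pow_stdAddChar a) (NeZero.ne m)

open scoped Classical in
/-- The values at the powers of a commuting element are integral combinations of roots of unity. -/
theorem exists_coeff {G : Type u} {X : Type v} [Group G] [Group X] [Fintype G] [Finite X]
    {χ : X → ℂ} (hχ : IsGeneralizedCharacter X χ) (ι : G →* X) (y : X) {m : ℕ} [NeZero m]
    (hy : ∀ g, Commute y (ι g)) (hm : y ^ m = 1) {lam : G → ℂ}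
    (hlam : IsGeneralizedCharacter G lam) :
    ∃ c : ZMod m → ℤ, ∀ k : ZMod m, classInner (fun g => χ (y ^ k.val * ι g)) lam =
      ∑ j, (c j : ℂ) * ZMod.stdAddChar (k * j) := by
  let φ : Multiplicative (ZMod m) →* X :=
    { toFun := fun a => y ^ a.toAdd.val
      map_one' := by simp
      map_mul' := fun a b => by
        rw [toAdd_mul, ZMod.val_add, ← pow_add, ← pow_eq_pow_mod _ hm] }
  let f : Multiplicative (ZMod m) × G →* X := φ.noncommCoprod ι fun a g => (hy g).pow_left _
  have hf : ∀ (a : ZMod m) (g : G), f (Multiplicative.ofAdd a, g) = y ^ a.val * ι g :=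
    fun a g => by simp [f, φ, MonoidHom.noncommCoprod_apply]
  let L : ZMod m → (Multiplicative (ZMod m) × G →* ℂˣ) := fun j =>
    ((AddChar.mulShift (ZMod.stdAddChar (N := m)) j).toMonoidHom.comp
      (MonoidHom.fst _ _)).toHomUnits
  have hint : ∀ j, ∃ z : ℤ, classInner (fun x => χ (f x))
      ((fun x => (L j x : ℂ)) * fun x => lam x.2) = z := fun j =>
    classInner_generalized_int (isGeneralizedCharacter_comp hχ f)
      (isGeneralizedCharacter_mul (isGeneralizedCharacter_of_isCharacter (isCharacter_hom (L j)))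
        (isGeneralizedCharacter_comp hlam (MonoidHom.snd (Multiplicative (ZMod m)) G)))
  choose c hc using hint
  refine ⟨c, fun k => ?_⟩
  have hprim : (ZMod.stdAddChar (N := m)).IsPrimitive := ZMod.isPrimitive_stdAddChar m
  have hsum : ∀ a : ZMod m, ∑ j : ZMod m, (ZMod.stdAddChar (j * (k - a)) : ℂ) =
      if k = a then (m : ℂ) else 0 := fun a => by
    rw [AddChar.sum_mulShift _ hprim, ZMod.card]
    by_cases h : k = a <;> simp [h, sub_eq_zero]
  let F : ZMod m → G → ℂ := fun a g => χ (y ^ a.val * ι g) * conj (lam g)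
  have hcj : ∀ j, (c j : ℂ) =
      ((m : ℂ) * Nat.card G)⁻¹ * ∑ a : ZMod m, ∑ g, F a g * ZMod.stdAddChar (-(j * a)) := fun j => by
    rw [← hc j, classInner, Nat.card_prod, Nat.card_congr Multiplicative.toAdd, Nat.card_zmod,
      Nat.cast_mul, Fintype.sum_prod_type, ← Equiv.sum_comp (Multiplicative.ofAdd (α := ZMod m))]
    congr 1
    refine Finset.sum_congr rfl fun a _ => Finset.sum_congr rfl fun g _ => ?_
    rw [hf, Pi.mul_apply, map_mul]
    have e : (L j (Multiplicative.ofAdd a, g) : ℂ) = ZMod.stdAddChar (j * a) := rfl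
    rw [e, conj_stdAddChar]
    ring
  calc classInner (fun g => χ (y ^ k.val * ι g)) lam = (Nat.card G : ℂ)⁻¹ * ∑ g, F k g := rfl
    _ = ((m : ℂ) * Nat.card G)⁻¹ *
        ∑ a : ZMod m, ∑ g, F a g * ∑ j, ZMod.stdAddChar (j * (k - a)) := by
      simp only [hsum, mul_ite, mul_zero]
      rw [Fintype.sum_eq_single k fun a ha => by simp [Ne.symm ha]]
      simp only [if_true, ← Finset.sum_mul]
      field_simp [NeZero.ne m]
    _ = _ := by
      simp only [hcj, Finset.mul_sum, Finset.sum_mul]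
      conv_rhs => rw [Finset.sum_comm]
      refine Finset.sum_congr rfl fun a _ => ?_
      rw [Finset.sum_comm]
      refine Finset.sum_congr rfl fun j _ => Finset.sum_congr rfl fun g _ => ?_
      rw [show j * (k - a) = -(j * a) + k * j by ring, AddChar.map_add_eq_mul]
      ring

theorem twist_mem {G : Type u} {X : Type v} [Group G] [Group X] [Fintype G] [Finite X]
    {χ : X → ℂ} (hχ : IsGeneralizedCharacter X χ) (ι : G →* X) (y : X) {m n : ℕ} (hm0 : m ≠ 0)
    (hy : ∀ g, Commute y (ι g)) (hm : y ^ m = 1) (hmn : m ∣ n) {lam : G → ℂ}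
    (hlam : IsGeneralizedCharacter G lam) :
    classInner (fun g => χ (y * ι g)) lam ∈ cycInt n := by
  have : NeZero m := ⟨hm0⟩
  obtain ⟨c, hc⟩ := exists_coeff hχ ι y hy hm hlam
  have e : y ^ (1 : ZMod m).val = y := by
    rw [show (1 : ZMod m) = ((1 : ℕ) : ZMod m) from Nat.cast_one.symm, ZMod.val_natCast,
      ← pow_eq_pow_mod _ hm, pow_one]
  have h := hc 1
  simp only [e] at h
  rw [h]
  exact sum_mem fun j _ => mul_mem (intCast_mem _ _) (stdAddChar_mem hmn _)

theorem sum_pow_prime {R ι : Type*} [CommRing R] {p : ℕ} (hp : p.Prime) (s : Finset ι) (x : ι → R) :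
    ∃ r, (∑ i ∈ s, x i) ^ p = ∑ i ∈ s, x i ^ p + p * r := by
  classical
  induction s using Finset.induction_on with
  | empty => exact ⟨0, by simp [hp.ne_zero]⟩
  | @insert a s ha ih =>
    obtain ⟨r, hr⟩ := ih
    obtain ⟨t, ht⟩ := exists_add_pow_prime_eq hp (x a) (∑ i ∈ s, x i)
    exact ⟨r + x a * (∑ i ∈ s, x i) * t, by rw [sum_insert ha, sum_insert ha, ht, hr]; ring⟩

/-- The `p`th power of a value at an element of order `p` is congruent to the degree. -/
theorem value_pow_congr {X : Type u} [Group X] [Finite X] {χ : X → ℂ}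
    (hχ : IsGeneralizedCharacter X χ) {p : ℕ} (hp : p.Prime) {v : X} (hv : v ^ p = 1) :
    ∃ r ∈ cycInt p, χ v ^ p = χ 1 + p * r := by
  have : Fact p.Prime := ⟨hp⟩
  letI := Fintype.ofFinite (⊥ : Subgroup X)
  obtain ⟨c, hc⟩ := exists_coeff hχ (⊥ : Subgroup X).subtype v (fun g => by
    rw [show (⊥ : Subgroup X).subtype g = 1 from Subgroup.mem_bot.1 g.2]; exact Commute.one_right v)
    hv (lam := fun _ => 1)
    (isGeneralizedCharacter_of_isCharacter (isCharacter_of_isIrr isIrrCharacter_one))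
  have hval : ∀ k : ZMod p, χ (v ^ k.val) = ∑ j, (c j : ℂ) * ZMod.stdAddChar (k * j) := fun k => by
    rw [← hc k, classInner, Fintype.sum_eq_single (1 : (⊥ : Subgroup X))
      fun b hb => absurd (Subtype.ext (Subgroup.mem_bot.1 b.2)) hb]
    simp
  have h1 := hval 1
  rw [show (1 : ZMod p).val = 1 from ZMod.val_one p, pow_one] at h1
  have h0 := hval 0
  simp only [ZMod.val_zero, pow_zero, zero_mul, AddChar.map_zero_eq_one, mul_one] at h0
  obtain ⟨r, hr⟩ := sum_pow_prime hp Finset.univ fun j =>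
    (⟨(c j : ℂ) * ZMod.stdAddChar (1 * j), mul_mem (intCast_mem _ _) (stdAddChar_mem dvd_rfl _)⟩ :
      cycInt p)
  have hz : ∀ z : ℤ, ∃ t : ℤ, z ^ p = z + p * t := fun z => by
    obtain ⟨t, ht⟩ : (p : ℤ) ∣ z ^ p - z := by
      rw [← ZMod.intCast_zmod_eq_zero_iff_dvd]; simp
    exact ⟨t, by linarith⟩
  choose t ht using hz
  refine ⟨(∑ j, (t (c j) : ℂ)) + r, add_mem (sum_mem fun j _ => intCast_mem _ _) r.2, ?_⟩
  have hr' := congrArg Subtype.val hr
  simp only [SubmonoidClass.coe_pow, Subring.coe_add, AddSubmonoidClass.coe_finsetSum,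
    Subring.coe_mul, SubringClass.coe_natCast] at hr'
  rw [h1, hr', h0, mul_add, ← add_assoc, Finset.mul_sum, ← Finset.sum_add_distrib]
  congr 1
  refine Finset.sum_congr rfl fun j _ => ?_
  rw [mul_pow, ← AddChar.map_nsmul_eq_pow, nsmul_eq_mul, ZMod.natCast_self, zero_mul,
    AddChar.map_zero_eq_one, mul_one]
  exact_mod_cast ht (c j)

section span

variable (H : Type u) [Group H] (n : ℕ)

/-- Characters and constant cyclotomic integers. -/
def gens : Set (H → ℂ) := {f | IsCharacter H f} ∪ {f | ∃ c ∈ cycInt n, f = fun _ => c}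

/-- The combinations of characters with cyclotomic integral coefficients. -/
noncomputable def charSpan : Subring (H → ℂ) := Subring.closure (gens H n)

variable {H n}

theorem char_mem_span {χ : H → ℂ} (hχ : IsCharacter H χ) : χ ∈ charSpan H n :=
  Subring.subset_closure (Or.inl hχ)

theorem const_mem_span {c : ℂ} (hc : c ∈ cycInt n) : (fun _ => c) ∈ charSpan H n :=
  Subring.subset_closure (Or.inr ⟨c, hc, rfl⟩)

theorem isClassFunction_of_mem_span {a : H → ℂ} (ha : a ∈ charSpan H n) : IsClassFunction H a := by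
  induction ha using Subring.closure_induction with
  | mem x hx =>
    rcases hx with hx | ⟨c, -, rfl⟩
    · exact isClassFunction_of_isCharacter hx
    · exact fun _ _ => rfl
  | zero => exact fun _ _ => rfl
  | one => exact fun _ _ => rfl
  | add x y _ _ hx hy => intro g k; simp [hx g k, hy g k]
  | neg x _ hx => intro g k; simp [hx g k]
  | mul x y _ _ hx hy => intro g k; simp [hx g k, hy g k]

theorem classInner_mem_of_span [Fintype H] {f a : H → ℂ}
    (hf : ∀ χ, IsCharacter H χ → classInner f χ ∈ cycInt n) (ha : a ∈ charSpan H n) :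
    classInner f a ∈ cycInt n := by
  have hmon : ∀ g ∈ Submonoid.closure (gens H n),
      ∃ c ∈ cycInt n, ∃ χ, IsCharacter H χ ∧ g = c • χ := by
    intro g hg
    induction hg using Submonoid.closure_induction with
    | mem x hx =>
      rcases hx with hx | ⟨c, hc, rfl⟩
      · exact ⟨1, one_mem _, x, hx, (one_smul _ x).symm⟩
      · exact ⟨c, hc, fun _ => 1, isCharacter_of_isIrr isIrrCharacter_one, by funext h; simp⟩
    | one => exact ⟨1, one_mem _, fun _ => 1, isCharacter_of_isIrr isIrrCharacter_one,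
        by funext h; simp⟩
    | mul x y _ _ hx hy =>
      obtain ⟨c, hc, χ, hχ, rfl⟩ := hx
      obtain ⟨d, hd, ψ, hψ, rfl⟩ := hy
      exact ⟨c * d, mul_mem hc hd, χ * ψ, isCharacter_mul hχ hψ, smul_mul_smul_comm c χ d ψ⟩
  rw [charSpan, Subring.mem_closure_iff] at ha
  induction ha using AddSubgroup.closure_induction with
  | mem x hx =>
    obtain ⟨c, hc, χ, hχ, rfl⟩ := hmon x hx
    rw [classInner_smul_right]
    exact mul_mem (conj_mem_cycInt hc) (hf χ hχ)
  | zero => rw [classInner_zero_right]; exact zero_mem _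
  | add x y _ _ hx hy => rw [classInner_add_right]; exact add_mem hx hy
  | neg x _ hx => rw [classInner_neg_right]; exact neg_mem hx

/-- A function of the span whose values are bounded powers of `p` has a reciprocal up to a power. -/
theorem exists_pow_div_mem [Finite H] {p : ℕ} (hp : p ≠ 0) (K : ℕ) (π : H → ℕ)
    (hπ : ∀ h, ∃ j ≤ K, π h = p ^ j) (hmem : (fun h => (π h : ℂ)) ∈ charSpan H n) :
    ∃ M : ℕ, (fun h => (p : ℂ) ^ M / (π h : ℂ)) ∈ charSpan H n := by
  have key : ∀ k : ℕ, ∃ r ∈ charSpan H n, ∀ h,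
      ∏ j ∈ range k, ((π h : ℂ) - (p : ℂ) ^ j) =
        π h * r h + (-1) ^ k * (p : ℂ) ^ (∑ j ∈ range k, j) := by
    intro k
    induction k with
    | zero => exact ⟨0, zero_mem _, fun h => by simp⟩
    | succ k ih =>
      obtain ⟨r, hr, he⟩ := ih
      refine ⟨r * ((fun h => (π h : ℂ)) - fun _ => (p : ℂ) ^ k) +
        fun _ => (-1) ^ k * (p : ℂ) ^ (∑ j ∈ range k, j), add_mem (mul_mem hr (sub_mem hmem
        (const_mem_span (pow_mem (natCast_mem _ _) _)))) (const_mem_span
        (mul_mem (pow_mem (neg_mem (one_mem _)) _) (pow_mem (natCast_mem _ _) _))), fun h => ?_⟩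
      rw [prod_range_succ, he h, sum_range_succ, pow_add, pow_succ]
      simp only [Pi.add_apply, Pi.mul_apply, Pi.sub_apply]
      ring
  obtain ⟨r, hr, he⟩ := key (K + 1)
  refine ⟨∑ j ∈ range (K + 1), j, ?_⟩
  have e : (fun h => (p : ℂ) ^ (∑ j ∈ range (K + 1), j) / (π h : ℂ)) =
      (fun _ => (-1 : ℂ) ^ K) * r := by
    funext h
    obtain ⟨j, hj, hjh⟩ := hπ h
    have h0 : ∏ j ∈ range (K + 1), ((π h : ℂ) - (p : ℂ) ^ j) = 0 :=
      prod_eq_zero (mem_range.2 (Nat.lt_succ_of_le hj)) (by rw [hjh]; push_cast; ring)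
    have hπ0 : (π h : ℂ) ≠ 0 := by
      rw [hjh]; exact_mod_cast pow_ne_zero j hp
    rw [Pi.mul_apply, div_eq_iff hπ0]
    have h1 := (he h).symm.trans h0
    have hsq : ((-1 : ℂ) ^ K) * (-1) ^ K = 1 := by rw [← mul_pow]; norm_num
    rw [pow_succ] at h1
    linear_combination (-(-1 : ℂ) ^ K) * h1 - (p : ℂ) ^ (∑ j ∈ range (K + 1), j) * hsq
  rw [e]
  exact mul_mem (const_mem_span (pow_mem (neg_mem (one_mem _)) _)) hr

end span

end CfsgLib.Char.KnorrReal
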