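import Cfsg.Agent.Lib.Char.KnorrReal.Span
import Mathlib.LinearAlgebra.BilinearForm.Properties
import Mathlib.FieldTheory.Finite.Basic
import Mathlib.RepresentationTheory.Basic
import Mathlib.Analysis.Real.Sqrt

/-!
# Square roots of permutation characters: symmetric forms

A weight of a permutation character is a cyclotomic combination of characters whose values are roots
of the values times unimodular cyclotomic integers.  The Gauss sums of an invariant symmetric form
give one in odd characteristic.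
-/

set_option autoImplicit false
set_option linter.unusedSectionVars false

namespace CfsgLib.Char.KnorrReal

open scoped ComplexConjugate
open Finset Cfsg CfsgLib CfsgLib.Char CfsgLib.Block

universe u v

/-- The function `π` has a weight. -/
def HasW (H : Type u) [Group H] (n : ℕ) (π : H → ℕ) : Prop :=
  ∃ w ∈ charSpan H n, ∀ h : H, ∃ ω ∈ cycInt n, ω * conj ω = 1 ∧
    w h = ((Real.sqrt (π h) : ℝ) : ℂ) * ω

theorem HasW.mul {H : Type u} [Group H] {n : ℕ} {π π' : H → ℕ} (h1 : HasW H n π)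
    (h2 : HasW H n π') : HasW H n fun h => π h * π' h := by
  obtain ⟨w, hw, hω⟩ := h1
  obtain ⟨w', hw', hω'⟩ := h2
  refine ⟨w * w', mul_mem hw hw', fun h => ?_⟩
  obtain ⟨o, ho, ho1, hwo⟩ := hω h
  obtain ⟨o', ho', ho1', hwo'⟩ := hω' h
  refine ⟨o * o', mul_mem ho ho', by rw [map_mul]; linear_combination (o' * conj o') * ho1 + ho1', ?_⟩
  rw [Pi.mul_apply, hwo, hwo', Nat.cast_mul, Real.sqrt_mul (Nat.cast_nonneg _)]
  push_cast
  ring

theorem hasW_const {H : Type u} [Group H] {n N : ℕ} (hN : ((Real.sqrt N : ℝ) : ℂ) ∈ cycInt n)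
    {π : H → ℕ} (hπ : ∀ h, π h = N) : HasW H n π :=
  ⟨_, const_mem_span hN, fun h => ⟨1, one_mem _, by simp, by rw [hπ h, mul_one]⟩⟩

/-- A root-of-unity factor of a sum with the absolute value and fourth power of a square root. -/
theorem exists_omega {g : ℂ} {N n : ℕ} (h4 : 4 ∣ n) (hN : N ≠ 0) (h1 : g * conj g = (N : ℂ))
    (h2 : g ^ 4 = (N : ℂ) ^ 2) :
    ∃ ω ∈ cycInt n, ω * conj ω = 1 ∧ g = ((Real.sqrt N : ℝ) : ℂ) * ω := by
  set s : ℂ := ((Real.sqrt N : ℝ) : ℂ) with hs
  have hss : s * s = (N : ℂ) := by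
    rw [hs, ← Complex.ofReal_mul, Real.mul_self_sqrt (Nat.cast_nonneg _)]; simp
  have hs0 : s ≠ 0 := fun h => hN (by rw [h, zero_mul] at hss; exact_mod_cast hss.symm)
  have hω : (g / s) * conj (g / s) = 1 := by
    rw [map_div₀, hs, Complex.conj_ofReal, ← hs, div_mul_div_comm, h1, hss,
      div_self (by exact_mod_cast hN)]
  refine ⟨g / s, cycInt_mono h4 (mem_cycInt_of_pow ?_), hω, (mul_div_cancel₀ g hs0).symm⟩
  rw [div_pow, h2, show s ^ 4 = (s * s) ^ 2 by ring, hss, div_self (by exact_mod_cast pow_ne_zero 2 hN)]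

variable {p : ℕ} [hp : Fact p.Prime]

/-- The Gauss sum of a nondegenerate symmetric form. -/
theorem gauss_sum (hp2 : p ≠ 2) {W : Type v} [AddCommGroup W] [Module (ZMod p) W] [Fintype W]
    (S : LinearMap.BilinForm (ZMod p) W) (hsym : ∀ x y, S x y = S y x)
    (hnd : ∀ x, (∀ y, S x y = 0) → x = 0) :
    (∑ u : W, (ZMod.stdAddChar (S u u) : ℂ)) * conj (∑ u : W, (ZMod.stdAddChar (S u u) : ℂ)) =
        (Fintype.card W : ℂ) ∧
      (∑ u : W, (ZMod.stdAddChar (S u u) : ℂ)) ^ 4 = (Fintype.card W : ℂ) ^ 2 := by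
  classical
  set g : ℂ := ∑ u : W, (ZMod.stdAddChar (S u u) : ℂ) with hg
  have h2 : (2 : ZMod p) ≠ 0 := by
    intro h
    have : ((2 : ℕ) : ZMod p) = 0 := by exact_mod_cast h
    exact hp2 ((Nat.prime_dvd_prime_iff_eq hp.out Nat.prime_two).1
      ((ZMod.natCast_eq_zero_iff ..).1 this))
  have hconj : conj g = ∑ u : W, (ZMod.stdAddChar (-(S u u)) : ℂ) := by
    rw [hg, map_sum]; simp [conj_stdAddChar]
  have key : g * conj g = (Fintype.card W : ℂ) := by
    have hzero : ∀ d : W, ∑ w : W, (ZMod.stdAddChar (2 * S d w) : ℂ) =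
        if d = 0 then (Fintype.card W : ℂ) else 0 := by
      intro d
      split_ifs with hd
      · subst hd; simp
      · obtain ⟨w₀, hw₀⟩ := not_forall.1 (mt (hnd d) hd)
        set T := ∑ w : W, (ZMod.stdAddChar (2 * S d w) : ℂ) with hT
        have e : T = ZMod.stdAddChar (2 * S d w₀) * T := by
          conv_lhs => rw [hT, ← Equiv.sum_comp (Equiv.addLeft w₀)]
          rw [hT, Finset.mul_sum]
          refine Finset.sum_congr rfl fun w _ => ?_
          simp only [Equiv.coe_addLeft, map_add, mul_add, AddChar.map_add_eq_mul]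
        have hne : (ZMod.stdAddChar (2 * S d w₀) : ℂ) ≠ 1 := fun h => by
          rw [← AddChar.map_zero_eq_one (ZMod.stdAddChar (N := p))] at h
          exact mul_ne_zero h2 hw₀ (ZMod.injective_stdAddChar h)
        rcases mul_eq_zero.1 (show (1 - ZMod.stdAddChar (2 * S d w₀)) * T = 0 by
          linear_combination e) with h | h
        · exact absurd (sub_eq_zero.1 h).symm hne
        · exact h
    calc g * conj g = ∑ u : W, ∑ w : W, (ZMod.stdAddChar (S u u + -(S w w)) : ℂ) := by
          rw [hconj, hg, Finset.sum_mul_sum]; simp only [AddChar.map_add_eq_mul]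
      _ = ∑ w : W, ∑ d : W, (ZMod.stdAddChar (S d d + 2 * S d w) : ℂ) := by
          rw [Finset.sum_comm]
          refine Finset.sum_congr rfl fun w _ => ?_
          rw [← Equiv.sum_comp (Equiv.addLeft w)]
          refine Finset.sum_congr rfl fun d _ => ?_
          simp only [Equiv.coe_addLeft, map_add, LinearMap.add_apply]
          rw [hsym w d]
          congr 1
          ring
      _ = _ := by
          rw [Finset.sum_comm]
          simp only [AddChar.map_add_eq_mul, ← Finset.mul_sum, hzero, mul_ite, mul_zero]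
          simp
  refine ⟨key, ?_⟩
  obtain ⟨a, b, hab⟩ := ZMod.sq_add_sq p (-1)
  let T : W × W → W × W := fun x => (a • x.1 + b • x.2, b • x.1 - a • x.2)
  have hTT : ∀ x, T (T x) = -x := fun x => by
    apply Prod.ext <;> simp only [T, smul_add, smul_sub, smul_smul, Prod.fst_neg, Prod.snd_neg]
    · rw [← neg_one_smul (ZMod p) x.1, ← hab]; module
    · rw [← neg_one_smul (ZMod p) x.2, ← hab]; module
  have hTbij : Function.Bijective T :=
    ⟨fun x y h => neg_injective (by rw [← hTT, h, hTT]),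
      fun x => ⟨T (-x), by rw [hTT, neg_neg]⟩⟩
  have hg2 : g ^ 2 = (conj g) ^ 2 := by
    rw [sq, sq, hconj, hg, Finset.sum_mul_sum, Finset.sum_mul_sum, ← Fintype.sum_prod_type',
      ← Fintype.sum_prod_type', ← hTbij.sum_comp]
    refine Finset.sum_congr rfl fun x _ => ?_
    rw [← AddChar.map_add_eq_mul, ← AddChar.map_add_eq_mul]
    congr 1
    simp only [T, map_add, map_sub, map_smul, LinearMap.add_apply, LinearMap.sub_apply,
      LinearMap.smul_apply, smul_eq_mul]
    rw [hsym x.2 x.1]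
    linear_combination (S x.1 x.1 + S x.2 x.2) * hab
  calc g ^ 4 = g ^ 2 * conj g ^ 2 := by rw [← hg2]; ring
    _ = _ := by rw [← mul_pow, key]

theorem sqrt_prime_mem {n : ℕ} (hn : 8 * p ∣ n) : ((Real.sqrt p : ℝ) : ℂ) ∈ cycInt n := by
  rcases eq_or_ne p 2 with h2 | h2
  · subst h2
    let ζ : ℂ := ⟨Real.sqrt 2 / 2, Real.sqrt 2 / 2⟩
    have hss : Real.sqrt 2 * Real.sqrt 2 = 2 := Real.mul_self_sqrt (by norm_num)
    have hζ2 : ζ ^ 2 = Complex.I := by
      apply Complex.ext
      · simp [ζ, sq]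
      · simp [ζ, sq]; linarith
    have hζ : ζ ∈ cycInt n := cycInt_mono (dvd_trans (dvd_mul_right 8 2) hn) (mem_cycInt_of_pow (by
      rw [show (8 : ℕ) = 2 * 4 from rfl, pow_mul, hζ2, Complex.I_pow_four]))
    have e : ((Real.sqrt (2 : ℕ) : ℝ) : ℂ) = ζ + conj ζ := by
      apply Complex.ext <;> simp [ζ]
    rw [e]
    exact add_mem hζ (conj_mem_cycInt hζ)
  · let S : LinearMap.BilinForm (ZMod p) (ZMod p) := LinearMap.mul (ZMod p) (ZMod p)
    obtain ⟨h1, h4⟩ := gauss_sum h2 S (fun x y => mul_comm x y) fun x hx => by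
      simpa [S] using hx 1
    obtain ⟨ω, hω, hω1, hg⟩ := exists_omega
      (dvd_trans (dvd_mul_of_dvd_left (by norm_num) p) hn) (Fintype.card_ne_zero) h1 h4
    rw [ZMod.card] at hg
    have e : ((Real.sqrt p : ℝ) : ℂ) = (∑ u : ZMod p, (ZMod.stdAddChar (S u u) : ℂ)) * conj ω := by
      rw [hg, mul_assoc, hω1, mul_one]
    rw [e]
    exact mul_mem (sum_mem fun u _ => stdAddChar_mem (dvd_trans (dvd_mul_left p 8) hn) _)
      (conj_mem_cycInt hω)

theorem sqrt_prime_pow_mem {n : ℕ} (hn : 8 * p ∣ n) (k : ℕ) :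
    ((Real.sqrt ((p ^ k : ℕ) : ℝ) : ℝ) : ℂ) ∈ cycInt n := by
  induction k with
  | zero => simp
  | succ k ih =>
    rw [pow_succ, Nat.cast_mul, Real.sqrt_mul (Nat.cast_nonneg _), Complex.ofReal_mul]
    exact mul_mem ih (sqrt_prime_mem hn)

variable {H : Type u} [Group H] {W : Type v} [AddCommGroup W] [Module (ZMod p) W]

/-- The number of fixed vectors. -/
noncomputable def fixCard (ρ : Representation (ZMod p) H W) (h : H) : ℕ :=
  Nat.card {w : W // ρ h w = w}

/-- The fixed vectors satisfying an invariant condition. -/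
theorem fix_pred_mem_span [Finite W] {n : ℕ} (ρ : Representation (ZMod p) H W) (P : W → Prop)
    (hP : ∀ h w, P w → P (ρ h w)) :
    (fun h => (Nat.card {w : W // P w ∧ ρ h w = w} : ℂ)) ∈ charSpan H n := by
  letI : MulAction H {w : W // P w} :=
    { smul := fun h w => ⟨ρ h w, hP h _ w.2⟩
      one_smul := fun w => Subtype.ext (show ρ 1 (w : W) = w by simp)
      mul_smul := fun a b w => Subtype.ext (show ρ (a * b) (w : W) = ρ a (ρ b w) by simp) }
  have e : (fun h => (Nat.card {w : W // P w ∧ ρ h w = w} : ℂ)) = permChar H {w : W // P w} := by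
    funext h
    rw [permChar, Nat.cast_inj]
    exact Nat.card_congr
      { toFun := fun w => ⟨⟨w.1, w.2.1⟩, Subtype.ext w.2.2⟩
        invFun := fun w => ⟨w.1.1, w.1.2, congrArg Subtype.val w.2⟩
        left_inv := fun w => rfl
        right_inv := fun w => rfl }
  rw [e]
  exact char_mem_span (isCharacter_permChar _)

theorem fixCard_mem_span [Finite W] {n : ℕ} (ρ : Representation (ZMod p) H W) :
    (fun h => (fixCard ρ h : ℂ)) ∈ charSpan H n := by
  have := fix_pred_mem_span (n := n) ρ (fun _ => True) fun _ _ _ => trivial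
  simpa [fixCard] using this

/-- The submodule of fixed vectors. -/
def fixSub (ρ : Representation (ZMod p) H W) (h : H) : Submodule (ZMod p) W :=
  LinearMap.eqLocus (ρ h) LinearMap.id

theorem mem_fixSub {ρ : Representation (ZMod p) H W} {h : H} {w : W} :
    w ∈ fixSub ρ h ↔ ρ h w = w := Iff.rfl

theorem fix_nondeg [Finite H] (hcop : ¬ p ∣ Nat.card H) (ρ : Representation (ZMod p) H W)
    (B : LinearMap.BilinForm (ZMod p) W) (hinv : ∀ h x y, B (ρ h x) (ρ h y) = B x y)
    (hnd : ∀ x, (∀ y, B x y = 0) → x = 0) (h : H) (x : fixSub ρ h)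
    (hx : ∀ y : fixSub ρ h, B x y = 0) : x = 0 := by
  refine Subtype.ext (hnd _ fun y => ?_)
  set o := orderOf h
  set z := ∑ k ∈ range o, ρ (h ^ k) y with hz
  have hfix : ρ h z = z := by
    rw [hz, map_sum]
    simp_rw [← Module.End.mul_apply, ← map_mul, ← pow_succ']
    have h1 := Finset.sum_range_succ' (fun k => ρ (h ^ k) y) o
    have h2 := Finset.sum_range_succ (fun k => ρ (h ^ k) y) o
    rw [h2, pow_zero, pow_orderOf_eq_one] at h1
    exact (add_right_cancel h1).symm
  have hxk : ∀ k : ℕ, ρ (h ^ k) (x : W) = x := fun k => by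
    induction k with
    | zero => simp
    | succ k ih => rw [pow_succ', map_mul, Module.End.mul_apply, ih]; exact x.2
  have h0 : B (x : W) z = (o : ZMod p) * B (x : W) y := by
    rw [hz, map_sum, Finset.sum_eq_card_nsmul (b := B (x : W) y), card_range, nsmul_eq_mul]
    intro k _
    have := hinv (h ^ k) x y
    rwa [hxk k] at this
  have hzero : B (x : W) z = 0 := hx ⟨z, hfix⟩
  rw [h0] at hzero
  refine (mul_eq_zero.1 hzero).resolve_left fun e => hcop ?_
  exact ((ZMod.natCast_eq_zero_iff ..).1 e).trans (orderOf_dvd_natCard h)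

/-- The weight of a symmetric form in odd characteristic. -/
theorem hasW_symm [Finite H] [Finite W] {n : ℕ} (hn : 8 * p ∣ n) (hp2 : p ≠ 2)
    (hcop : ¬ p ∣ Nat.card H) (ρ : Representation (ZMod p) H W)
    (S : LinearMap.BilinForm (ZMod p) W) (hsym : ∀ x y, S x y = S y x)
    (hinv : ∀ h x y, S (ρ h x) (ρ h y) = S x y) (hnd : ∀ x, (∀ y, S x y = 0) → x = 0) :
    HasW H n (fixCard ρ) := by
  classical
  have := Fintype.ofFinite W
  refine ⟨∑ c : ZMod p, (fun _ => (ZMod.stdAddChar c : ℂ)) *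
    (fun h => (Nat.card {w : W // S w w = c ∧ ρ h w = w} : ℂ)), sum_mem fun c _ => mul_mem
    (const_mem_span (stdAddChar_mem (dvd_trans (dvd_mul_left p 8) hn) _))
    (fix_pred_mem_span ρ _ fun h w hw => by rw [hinv, hw]), fun h => ?_⟩
  have hval : (∑ c : ZMod p, (fun _ => (ZMod.stdAddChar c : ℂ)) *
      (fun h => (Nat.card {w : W // S w w = c ∧ ρ h w = w} : ℂ)) : H → ℂ) h =
      ∑ u : fixSub ρ h, (ZMod.stdAddChar (S u u) : ℂ) := by
    rw [Finset.sum_apply, ← Finset.sum_fiberwise Finset.univ (fun u : fixSub ρ h => S u u)]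
    refine Finset.sum_congr rfl fun c _ => ?_
    rw [Finset.sum_congr rfl fun u hu => by rw [(Finset.mem_filter.1 hu).2], Finset.sum_const,
      nsmul_eq_mul, Pi.mul_apply, mul_comm, ← Fintype.card_subtype, ← Nat.card_eq_fintype_card]
    congr 2
    exact Nat.card_congr
      { toFun := fun w => ⟨⟨w.1, w.2.2⟩, w.2.1⟩
        invFun := fun w => ⟨w.1.1, w.2, w.1.2⟩
        left_inv := fun w => rfl
        right_inv := fun w => rfl }
  obtain ⟨h1, h4⟩ := gauss_sum hp2 (S.restrict (fixSub ρ h)) (fun x y => hsym x y)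
    fun x hx => fix_nondeg hcop ρ S hinv hnd h x hx
  obtain ⟨ω, hω, hω1, hg⟩ := exists_omega
    (dvd_trans (dvd_mul_of_dvd_left (by norm_num) p) hn) (Fintype.card_ne_zero) h1 h4
  refine ⟨ω, hω, hω1, ?_⟩
  rw [hval, fixCard, show Nat.card {w : W // ρ h w = w} = Fintype.card (fixSub ρ h) from
    (Nat.card_eq_fintype_card (α := fixSub ρ h))]
  exact hg

end CfsgLib.Char.KnorrReal
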